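import Mathlib

/-!
# Orthogonality for multiplicative characters of a finite field (complex values)
-/

set_option autoImplicit false
set_option linter.unusedSectionVars false

namespace Cfsg.Agent.Lib.Helper39

open scoped ComplexConjugate

variable {F : Type*} [Field F] [Fintype F] [DecidableEq F]

noncomputable instance mcFintype : Fintype (MulChar F ℂ) := Fintype.ofFinite _

theorem card_units_F : Fintype.card Fˣ = Fintype.card F - 1 :=
  Fintype.card_units F

theorem one_lt_card_F : 1 < Fintype.card F := Fintype.one_lt_card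

theorem cast_card_sub_one : ((Fintype.card F - 1 : ℕ) : ℂ) = (Fintype.card F : ℂ) - 1 := by
  rw [Nat.cast_sub one_lt_card_F.le]; simp

theorem card_sub_one_ne_zero : (Fintype.card F : ℂ) - 1 ≠ 0 := by
  rw [← cast_card_sub_one]
  have := one_lt_card_F (F := F)
  exact_mod_cast (by omega : Fintype.card F - 1 ≠ 0)

theorem card_F_ne_zero : (Fintype.card F : ℂ) ≠ 0 := by
  exact_mod_cast Fintype.card_ne_zero

theorem mc_conj (α : MulChar F ℂ) (s : F) : conj (α s) = α⁻¹ s :=
  MulChar.star_apply' α s

theorem mc_sum_mul_conj (α α' : MulChar F ℂ) :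
    ∑ s : F, α s * conj (α' s) = if α = α' then (Fintype.card F : ℂ) - 1 else 0 := by
  classical
  have h1 : ∀ s : F, α s * conj (α' s) = (α * α'⁻¹) s := by
    intro s
    rw [mc_conj, MulChar.mul_apply]
  simp_rw [h1]
  split_ifs with h
  · subst h
    rw [mul_inv_cancel, MulChar.sum_one_eq_card_units, card_units_F, cast_card_sub_one]
  · apply MulChar.sum_eq_zero_of_ne_one
    intro hc
    exact h (mul_inv_eq_one.1 hc)

theorem mc_sum_chars (s : F) :
    ∑ α : MulChar F ℂ, α s = if s = 1 then (Fintype.card F : ℂ) - 1 else 0 := by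
  classical
  split_ifs with h
  · subst h
    simp only [map_one, Finset.sum_const, Finset.card_univ, nsmul_eq_mul, mul_one]
    rw [← Nat.card_eq_fintype_card, MulChar.card_eq_card_units_of_hasEnoughRootsOfUnity,
      Nat.card_eq_fintype_card, card_units_F, cast_card_sub_one]
  · obtain ⟨χ, hχ⟩ := MulChar.exists_apply_ne_one_of_hasEnoughRootsOfUnity F ℂ h
    refine eq_zero_of_mul_eq_self_left hχ ?_
    simp only [Finset.mul_sum, ← MulChar.mul_apply]
    exact Fintype.sum_bijective _ (Group.mulLeft_bijective χ) _ _ fun χ' ↦ rfl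

theorem mc_card : Fintype.card (MulChar F ℂ) = Fintype.card F - 1 := by
  rw [← Nat.card_eq_fintype_card, MulChar.card_eq_card_units_of_hasEnoughRootsOfUnity,
      Nat.card_eq_fintype_card, card_units_F]

theorem mc_sum_chars_conj (s : F) :
    ∑ α : MulChar F ℂ, conj (α s) = if s = 1 then (Fintype.card F : ℂ) - 1 else 0 := by
  rw [← map_sum, mc_sum_chars]
  split_ifs <;> simp

theorem sum_units_eq (f : F → ℂ) (h0 : f 0 = 0) : ∑ s : Fˣ, f s = ∑ s : F, f s := by
  classical
  have h1 : ∑ s : F, f s = ∑ s ∈ Finset.univ.filter (fun s : F => s ≠ 0), f s := by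
    rw [Finset.sum_filter]
    apply Finset.sum_congr rfl
    intro s _
    split_ifs with h
    · rfl
    · push Not at h
      rw [h, h0]
  rw [h1]
  refine Finset.sum_bij (fun s _ => (s : F)) ?_ ?_ ?_ ?_
  · intro s _
    simp
  · intro a _ b _ h
    exact Units.ext h
  · intro b hb
    simp only [Finset.mem_filter, Finset.mem_univ, true_and] at hb
    exact ⟨Units.mk0 b hb, Finset.mem_univ _, rfl⟩
  · intro a _
    rfl

theorem mc_norm (α : MulChar F ℂ) {s : F} (hs : s ≠ 0) : α s * conj (α s) = 1 := by
  rw [mc_conj, ← MulChar.mul_apply, mul_inv_cancel]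
  exact MulChar.one_apply (isUnit_iff_ne_zero.2 hs)

theorem mc_ne_zero (α : MulChar F ℂ) {s : F} (hs : s ≠ 0) : α s ≠ 0 := by
  intro h
  have := mc_norm α hs
  rw [h, zero_mul] at this
  exact zero_ne_one this

end Cfsg.Agent.Lib.Helper39
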