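import Cfsg.Agent.Lib.Helper39.GL2Char.Trans
import Cfsg.Agent.Lib.Helper39.GL2Char.MC
import Cfsg.Agent.Lib.Helper3.Perm
import Cfsg.Prelude.Def_ParabolicCharacters

/-!
# The Borel subgroup of `GL₂(F)` and the principal series functions
-/

set_option autoImplicit false
set_option linter.unusedSectionVars false

namespace Cfsg.Agent.Lib.Helper39

open Cfsg Cfsg.Agent.Lib Cfsg.Agent.Lib.Helper15
open scoped ComplexConjugate MatrixGroups

section field
variable {F : Type*} [Field F]

theorem mem_BG_iff (g : GL (Fin 2) F) :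
    g ∈ upperTriangularGL 2 F ↔ (g : Matrix (Fin 2) (Fin 2) F) 1 0 = 0 := by
  change (g : Matrix (Fin 2) (Fin 2) F).BlockTriangular id ↔ _
  constructor
  · intro h
    exact h (by decide : id (0 : Fin 2) < id 1)
  · intro h i j hij
    fin_cases i <;> fin_cases j <;> simp_all

theorem GL2_det_ne_zero (g : GL (Fin 2) F) :
    (g : Matrix (Fin 2) (Fin 2) F) 0 0 * (g : Matrix (Fin 2) (Fin 2) F) 1 1
      - (g : Matrix (Fin 2) (Fin 2) F) 0 1 * (g : Matrix (Fin 2) (Fin 2) F) 1 0 ≠ 0 := by
  rw [← Matrix.det_fin_two]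
  exact (Matrix.GeneralLinearGroup.det g).ne_zero

/-- the upper triangular matrix `[[s,x],[0,t]]`. -/
noncomputable def bG (s t : Fˣ) (x : F) : GL (Fin 2) F :=
  Matrix.GeneralLinearGroup.mkOfDetNeZero !![(s : F), x; 0, (t : F)]
    (by simp [Matrix.det_fin_two_of])

theorem bG_coe (s t : Fˣ) (x : F) :
    (bG s t x : Matrix (Fin 2) (Fin 2) F) = !![(s : F), x; 0, (t : F)] := rfl

theorem bG_mem (s t : Fˣ) (x : F) : bG s t x ∈ upperTriangularGL 2 F := by
  rw [mem_BG_iff, bG_coe]; rfl

/-- parametrisation of the Borel subgroup. -/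
noncomputable def bB (p : Fˣ × Fˣ × F) : upperTriangularGL 2 F :=
  ⟨bG p.1 p.2.1 p.2.2, bG_mem _ _ _⟩

theorem bB_bijective : Function.Bijective (bB (F := F)) := by
  constructor
  · rintro ⟨s, t, x⟩ ⟨s', t', x'⟩ h
    have h1 : (bG s t x : Matrix (Fin 2) (Fin 2) F) = bG s' t' x' :=
      congrArg (fun b : upperTriangularGL 2 F => ((b : GL (Fin 2) F) : Matrix (Fin 2) (Fin 2) F)) h
    rw [bG_coe, bG_coe] at h1
    have h00 := congrFun (congrFun h1 0) 0
    have h01 := congrFun (congrFun h1 0) 1
    have h11 := congrFun (congrFun h1 1) 1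
    simp at h00 h01 h11
    rw [Units.ext h00, Units.ext h11, h01]
  · rintro ⟨g, hg⟩
    rw [mem_BG_iff] at hg
    have hd := GL2_det_ne_zero g
    rw [hg, mul_zero, sub_zero] at hd
    refine ⟨(Units.mk0 _ (left_ne_zero_of_mul hd), Units.mk0 _ (right_ne_zero_of_mul hd),
      (g : Matrix (Fin 2) (Fin 2) F) 0 1), ?_⟩
    apply Subtype.ext
    apply Units.ext
    change !![_, _; _, _] = (g : Matrix (Fin 2) (Fin 2) F)
    ext i j
    fin_cases i <;> fin_cases j <;> simp [hg]

/-- representatives of the cosets of the Borel subgroup. -/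
noncomputable def rG : Option F → GL (Fin 2) F
  | none => 1
  | some c => Matrix.GeneralLinearGroup.mkOfDetNeZero !![c, 1; 1, 0]
      (by simp [Matrix.det_fin_two_of])

noncomputable def rGi (c : F) : GL (Fin 2) F :=
  Matrix.GeneralLinearGroup.mkOfDetNeZero !![0, 1; 1, -c] (by simp [Matrix.det_fin_two_of])

theorem rG_some_coe (c : F) : (rG (some c) : Matrix (Fin 2) (Fin 2) F) = !![c, 1; 1, 0] := rfl

theorem rGi_coe (c : F) : (rGi c : Matrix (Fin 2) (Fin 2) F) = !![0, 1; 1, -c] := rfl

theorem rG_inv (c : F) : (rG (some c))⁻¹ = rGi c := by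
  apply inv_eq_of_mul_eq_one_right
  apply Units.ext
  rw [Units.val_mul, rG_some_coe, rGi_coe]
  ext i j
  fin_cases i <;> fin_cases j <;> simp [Matrix.mul_apply, Fin.sum_univ_two]

theorem rG_bijective :
    Function.Bijective (fun p : Option F × upperTriangularGL 2 F => rG p.1 * (p.2 : GL (Fin 2) F)) := by
  have key : ∀ (c : F) (b : upperTriangularGL 2 F),
      ((rG (some c) * (b : GL (Fin 2) F) : GL (Fin 2) F) : Matrix (Fin 2) (Fin 2) F) 0 0
        = c * ((b : GL (Fin 2) F) : Matrix (Fin 2) (Fin 2) F) 0 0 ∧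
      ((rG (some c) * (b : GL (Fin 2) F) : GL (Fin 2) F) : Matrix (Fin 2) (Fin 2) F) 1 0
        = ((b : GL (Fin 2) F) : Matrix (Fin 2) (Fin 2) F) 0 0 := by
    intro c b
    have hb := (mem_BG_iff _).1 b.2
    rw [Units.val_mul, rG_some_coe]
    constructor <;> simp [Matrix.mul_apply, Fin.sum_univ_two, hb]
  have hb0 : ∀ b : upperTriangularGL 2 F, ((b : GL (Fin 2) F) : Matrix (Fin 2) (Fin 2) F) 0 0 ≠ 0 := by
    intro b
    have hb := (mem_BG_iff _).1 b.2
    have hd := GL2_det_ne_zero (b : GL (Fin 2) F)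
    rw [hb, mul_zero, sub_zero] at hd
    exact left_ne_zero_of_mul hd
  constructor
  · rintro ⟨l, b⟩ ⟨l', b'⟩ h
    simp only at h
    have hl : l = l' := by
      cases l with
      | none =>
        cases l' with
        | none => rfl
        | some c' =>
          exfalso
          have h1 := (key c' b').2
          rw [← h] at h1
          simp only [rG, one_mul] at h1
          rw [(mem_BG_iff _).1 b.2] at h1
          exact hb0 b' h1.symm
      | some c =>
        cases l' with
        | none =>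
          exfalso
          have h1 := (key c b).2
          rw [h] at h1
          simp only [rG, one_mul] at h1
          rw [(mem_BG_iff _).1 b'.2] at h1
          exact hb0 b h1.symm
        | some c' =>
          have h1 := (key c b).2
          have h2 := (key c b).1
          rw [h] at h1 h2
          rw [(key c' b').2] at h1
          rw [(key c' b').1, h1] at h2
          rw [mul_right_cancel₀ (hb0 b) h2]
    subst hl
    have := mul_left_cancel h
    rw [Subtype.ext this]
  · intro y
    by_cases hy : (y : Matrix (Fin 2) (Fin 2) F) 1 0 = 0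
    · exact ⟨(none, ⟨y, (mem_BG_iff _).2 hy⟩), by simp [rG]⟩
    · refine ⟨(some ((y : Matrix (Fin 2) (Fin 2) F) 0 0 / (y : Matrix (Fin 2) (Fin 2) F) 1 0),
        ⟨rGi ((y : Matrix (Fin 2) (Fin 2) F) 0 0 / (y : Matrix (Fin 2) (Fin 2) F) 1 0) * y, ?_⟩), ?_⟩
      · rw [mem_BG_iff, Units.val_mul, rGi_coe]
        simp [Matrix.mul_apply, Fin.sum_univ_two]
        field_simp
        ring
      · simp only
        rw [← rG_inv, mul_inv_cancel_left]

end field

section finite
variable {F : Type*} [Field F] [Fintype F] [DecidableEq F]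

/-- the linear character `(α,β)` of the Borel subgroup. -/
noncomputable def muG (α β : MulChar F ℂ) : upperTriangularGL 2 F → ℂ :=
  fun b => α (((b : GL (Fin 2) F) : Matrix (Fin 2) (Fin 2) F) 0 0) *
    β (((b : GL (Fin 2) F) : Matrix (Fin 2) (Fin 2) F) 1 1)

theorem muG_bB (α β : MulChar F ℂ) (s t : Fˣ) (x : F) : muG α β (bB (s, t, x)) = α s * β t := rfl

/-- `muG` as a monoid hom. -/
noncomputable def muGHom (α β : MulChar F ℂ) : upperTriangularGL 2 F →* ℂ where
  toFun := muG α β
  map_one' := by simp [muG]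
  map_mul' := by
    intro a b
    have ha := (mem_BG_iff _).1 a.2
    have hb := (mem_BG_iff _).1 b.2
    simp only [muG, Subgroup.coe_mul, Units.val_mul, Matrix.mul_apply, Fin.sum_univ_two, ha, hb,
      mul_zero, zero_mul, add_zero, zero_add, map_mul]
    ring

theorem muG_irr (α β : MulChar F ℂ) : IsIrrCharacter (upperTriangularGL 2 F) (muG α β) :=
  Helper3.isIrrCharacter_of_hom (muGHom α β).toHomUnits

theorem ext_muG (α β : MulChar F ℂ) (y : GL (Fin 2) F) :
    extendByZero (upperTriangularGL 2 F) (muG α β) y =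
      if (y : Matrix (Fin 2) (Fin 2) F) 1 0 = 0 then
        α ((y : Matrix (Fin 2) (Fin 2) F) 0 0) * β ((y : Matrix (Fin 2) (Fin 2) F) 1 1) else 0 := by
  split_ifs with h
  · rw [extendByZero_mem _ _ ((mem_BG_iff y).2 h)]
    rfl
  · rw [extendByZero_not_mem]
    rwa [mem_BG_iff]

/-- the principal series function. -/
noncomputable def psG (α β : MulChar F ℂ) : GL (Fin 2) F → ℂ :=
  indFun (upperTriangularGL 2 F) (muG α β)

theorem psG_char (α β : MulChar F ℂ) : IsCharacter (GL (Fin 2) F) (psG α β) :=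
  char_indFun _ (irr_char (muG_irr α β))

theorem psG_apply (α β : MulChar F ℂ) (g : GL (Fin 2) F) :
    psG α β g =
      (if (g : Matrix (Fin 2) (Fin 2) F) 1 0 = 0 then
        α ((g : Matrix (Fin 2) (Fin 2) F) 0 0) * β ((g : Matrix (Fin 2) (Fin 2) F) 1 1) else 0) +
      ∑ c : F, if (g : Matrix (Fin 2) (Fin 2) F) 0 0 * c + (g : Matrix (Fin 2) (Fin 2) F) 0 1
          = c * ((g : Matrix (Fin 2) (Fin 2) F) 1 0 * c + (g : Matrix (Fin 2) (Fin 2) F) 1 1) then
        α ((g : Matrix (Fin 2) (Fin 2) F) 1 0 * c + (g : Matrix (Fin 2) (Fin 2) F) 1 1) *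
          β ((g : Matrix (Fin 2) (Fin 2) F) 0 0 - c * (g : Matrix (Fin 2) (Fin 2) F) 1 0) else 0 := by
  unfold psG
  rw [indFun_eq_sum_transversal _ _ (irr_cf (muG_irr α β)) rG rG_bijective, Fintype.sum_option]
  congr 1
  · rw [ext_muG]
    simp [rG]
  · apply Finset.sum_congr rfl
    intro c _
    rw [ext_muG, rG_inv]
    have e10 : ((rGi c * g * rG (some c) : GL (Fin 2) F) : Matrix (Fin 2) (Fin 2) F) 1 0
        = (g : Matrix (Fin 2) (Fin 2) F) 0 0 * c + (g : Matrix (Fin 2) (Fin 2) F) 0 1
          - c * ((g : Matrix (Fin 2) (Fin 2) F) 1 0 * c + (g : Matrix (Fin 2) (Fin 2) F) 1 1) := by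
      rw [Units.val_mul, Units.val_mul, rGi_coe, rG_some_coe]
      simp only [Matrix.mul_apply, Fin.sum_univ_two]
      simp
      ring
    have e00 : ((rGi c * g * rG (some c) : GL (Fin 2) F) : Matrix (Fin 2) (Fin 2) F) 0 0
        = (g : Matrix (Fin 2) (Fin 2) F) 1 0 * c + (g : Matrix (Fin 2) (Fin 2) F) 1 1 := by
      rw [Units.val_mul, Units.val_mul, rGi_coe, rG_some_coe]
      simp only [Matrix.mul_apply, Fin.sum_univ_two]
      simp
    have e11 : ((rGi c * g * rG (some c) : GL (Fin 2) F) : Matrix (Fin 2) (Fin 2) F) 1 1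
        = (g : Matrix (Fin 2) (Fin 2) F) 0 0 - c * (g : Matrix (Fin 2) (Fin 2) F) 1 0 := by
      rw [Units.val_mul, Units.val_mul, rGi_coe, rG_some_coe]
      simp only [Matrix.mul_apply, Fin.sum_univ_two]
      simp
      ring
    rw [e10, e00, e11]
    simp only [sub_eq_zero]

theorem psG_bG (α β : MulChar F ℂ) (s t : Fˣ) (x : F) :
    psG α β (bG s t x) = α s * β t + ∑ c : F, if (s : F) * c + x = c * t then α t * β s else 0 := by
  rw [psG_apply, bG_coe]
  simp

/-- summing a principal series function over a coset of the unipotent radical. -/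
theorem sum_psG_bG (α β : MulChar F ℂ) (s t : Fˣ) :
    ∑ x : F, psG α β (bG s t x) = (Fintype.card F : ℂ) * (α s * β t + α t * β s) := by
  simp_rw [psG_bG]
  rw [Finset.sum_add_distrib, Finset.sum_comm]
  have h1 : ∀ c : F, (∑ x : F, if (s : F) * c + x = c * t then α t * β s else 0) = α t * β s := by
    intro c
    rw [Finset.sum_eq_single (c * t - s * c)]
    · simp
    · intro b _ hb
      rw [if_neg]
      intro h
      apply hb
      rw [← h]; ring
    · intro h
      exact absurd (Finset.mem_univ _) h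
  simp_rw [h1]
  simp only [Finset.sum_const, Finset.card_univ, nsmul_eq_mul]
  ring

theorem card_BG : (Nat.card (upperTriangularGL 2 F) : ℂ)
    = (Fintype.card F : ℂ) * ((Fintype.card F : ℂ) - 1) ^ 2 := by
  rw [← Nat.card_congr (Equiv.ofBijective _ (bB_bijective (F := F)))]
  rw [Nat.card_prod, Nat.card_prod, Nat.card_eq_fintype_card, Nat.card_eq_fintype_card,
    card_units_F]
  push_cast
  rw [cast_card_sub_one]
  ring

theorem sum_BG [Fintype (upperTriangularGL 2 F)] (f : upperTriangularGL 2 F → ℂ) :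
    ∑ b, f b = ∑ s : Fˣ, ∑ t : Fˣ, ∑ x : F, f (bB (s, t, x)) := by
  rw [← Function.Bijective.sum_comp (bB_bijective (F := F)) f, Fintype.sum_prod_type]
  apply Finset.sum_congr rfl
  intro s _
  rw [Fintype.sum_prod_type]

theorem ite_arith (q : ℂ) (hq : q ≠ 0) (hq1 : q - 1 ≠ 0) (P1 P2 P3 P4 : Prop) [Decidable P1]
    [Decidable P2] [Decidable P3] [Decidable P4] :
    (q * (q - 1) ^ 2)⁻¹ * (q * ((if P1 then q - 1 else 0) * (if P2 then q - 1 else 0)
      + (if P3 then q - 1 else 0) * (if P4 then q - 1 else 0)))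
      = (if P1 ∧ P2 then 1 else 0) + (if P3 ∧ P4 then 1 else 0) := by
  by_cases h1 : P1 <;> by_cases h2 : P2 <;> by_cases h3 : P3 <;> by_cases h4 : P4 <;>
    simp [h1, h2, h3, h4] <;> field_simp

/-- the Mackey formula for the principal series. -/
theorem inner_psG_psG (α β α' β' : MulChar F ℂ) :
    classInner (psG α β) (psG α' β') =
      (if α = α' ∧ β = β' then 1 else 0) + (if α = β' ∧ β = α' then 1 else 0) := by
  classical
  have := Fintype.ofFinite (upperTriangularGL 2 F)
  unfold psG
  rw [classInner_indFun_left _ _ _ (indFun_isClassFunction _ _)]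
  unfold classInner
  rw [sum_BG]
  have h1 : ∀ s t : Fˣ, ∑ x : F, muG α β (bB (s, t, x)) *
      conj (indFun (upperTriangularGL 2 F) (muG α' β') (bB (s, t, x) : GL (Fin 2) F))
      = (Fintype.card F : ℂ) * ((α s * conj (α' s)) * (β t * conj (β' t))
          + (α s * conj (β' s)) * (β t * conj (α' t))) := by
    intro s t
    simp_rw [muG_bB]
    rw [← Finset.mul_sum, ← map_sum]
    have := sum_psG_bG α' β' s t
    unfold psG at this
    change α s * β t * conj (∑ x : F, indFun (upperTriangularGL 2 F) (muG α' β') (bG s t x)) = _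
    rw [this]
    simp only [map_mul, map_add, Complex.conj_natCast]
    ring
  simp_rw [h1]
  simp_rw [← Finset.mul_sum, Finset.sum_add_distrib, ← Finset.mul_sum, ← Finset.sum_mul]
  rw [sum_units_eq (fun s => α s * conj (α' s)) (by simp [MulChar.map_zero]),
    sum_units_eq (fun s => β s * conj (β' s)) (by simp [MulChar.map_zero]),
    sum_units_eq (fun s => α s * conj (β' s)) (by simp [MulChar.map_zero]),
    sum_units_eq (fun s => β s * conj (α' s)) (by simp [MulChar.map_zero])]
  rw [mc_sum_mul_conj, mc_sum_mul_conj, mc_sum_mul_conj, mc_sum_mul_conj, card_BG]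
  exact ite_arith _ card_F_ne_zero card_sub_one_ne_zero _ _ _ _

theorem psG_irr {α β : MulChar F ℂ} (h : α ≠ β) : IsIrrCharacter (GL (Fin 2) F) (psG α β) := by
  rw [isIrr_iff]
  refine ⟨psG_char α β, ?_⟩
  rw [inner_psG_psG]
  simp [h]

theorem psG_swap (α β : MulChar F ℂ) : psG α β = psG β α := by
  rw [← sub_eq_zero]
  apply classInner_self_eq_zero
  rw [classInner_sub_left, classInner_sub_right, classInner_sub_right, inner_psG_psG,
    inner_psG_psG, inner_psG_psG, inner_psG_psG]
  by_cases h : α = β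
  · simp [h]
  · simp [h, Ne.symm h]

theorem psG_eq_iff (α β α' β' : MulChar F ℂ) :
    psG α β = psG α' β' ↔ (α = α' ∧ β = β') ∨ (α = β' ∧ β = α') := by
  constructor
  · intro h
    have h1 := inner_psG_psG α β α' β'
    rw [← h, inner_psG_psG] at h1
    by_contra hc
    push Not at hc
    have h2 : ¬ (α = α' ∧ β = β') := fun h => hc.1 h.1 h.2
    have h3 : ¬ (α = β' ∧ β = α') := fun h => hc.2 h.1 h.2
    rw [if_neg h2, if_neg h3] at h1
    simp only [and_self, if_true, add_zero] at h1
    split_ifs at h1 <;> norm_num at h1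
  · rintro (⟨rfl, rfl⟩ | ⟨rfl, rfl⟩)
    · rfl
    · exact psG_swap _ _

end finite

end Cfsg.Agent.Lib.Helper39
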