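import Cfsg.Agent.Lib.Helper15.CharTools
import Cfsg.Agent.S0134

/-!
# The finite set of irreducible characters, as a `Finset` of functions
-/

set_option autoImplicit false

namespace Cfsg.Agent.Lib.Helper39

open Cfsg Cfsg.Agent.Lib Cfsg.Agent.Lib.Helper15

variable (G : Type*) [Group G] [Finite G]

theorem finite_setOf_irr : Set.Finite {χ : G → ℂ | IsIrrCharacter G χ} :=
  Set.finite_coe_iff.1 (inferInstanceAs (Finite (IrrCharacter G)))

/-- the irreducible characters as a finset of functions. -/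
noncomputable def irrSet : Finset (G → ℂ) := (finite_setOf_irr G).toFinset

variable {G}

theorem mem_irrSet {χ : G → ℂ} : χ ∈ irrSet G ↔ IsIrrCharacter G χ := by
  simp [irrSet]

theorem sum_irrSet [Fintype (IrrCharacter G)] (f : (G → ℂ) → ℂ) :
    ∑ χ ∈ irrSet G, f χ = ∑ χ : IrrCharacter G, f χ := by
  symm
  refine Finset.sum_bij (fun χ _ => (χ : G → ℂ)) ?_ ?_ ?_ ?_
  · intro χ _
    exact mem_irrSet.2 χ.2
  · intro a _ b _ h
    exact Subtype.ext h
  · intro b hb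
    exact ⟨⟨b, mem_irrSet.1 hb⟩, Finset.mem_univ _, rfl⟩
  · intro a _
    rfl

theorem card_subtype_irr (P : (G → ℂ) → Prop) [DecidablePred P] :
    Nat.card {χ : IrrCharacter G // P χ} = ((irrSet G).filter P).card := by
  classical
  rw [← Nat.card_eq_finsetCard]
  apply Nat.card_congr
  refine ⟨fun χ => ⟨χ.1.1, by simp [mem_irrSet, χ.1.2, χ.2]⟩,
    fun χ => ⟨⟨χ.1, mem_irrSet.1 (Finset.mem_filter.1 χ.2).1⟩, (Finset.mem_filter.1 χ.2).2⟩, ?_, ?_⟩
  · intro χ; rfl
  · intro χ; rfl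

theorem card_irrSet : (irrSet G).card = Nat.card (ConjClasses G) := by
  classical
  rw [← Helper3.card_irrCharacter, ← Nat.card_eq_finsetCard]
  apply Nat.card_congr
  refine ⟨fun χ => ⟨χ.1, mem_irrSet.1 χ.2⟩, fun χ => ⟨χ.1, mem_irrSet.2 χ.2⟩, ?_, ?_⟩
  · intro χ; rfl
  · intro χ; rfl

theorem sum_sq_irrSet : ∑ χ ∈ irrSet G, χ 1 ^ 2 = (Nat.card G : ℂ) := by
  have := Fintype.ofFinite (IrrCharacter G)
  rw [sum_irrSet (fun χ => χ 1 ^ 2), ← Cfsg.Agent.S0134.result, finsum_eq_sum_of_fintype]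

end Cfsg.Agent.Lib.Helper39
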