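import Cfsg.Agent.Lib.Helper39.GL2Char.Unip
import Cfsg.Agent.Lib.Helper39.GL2Char.IrrSet
import Cfsg.Agent.S2330

/-!
# Classification of the irreducible characters of `GL₂(F)`
-/

set_option autoImplicit false
set_option linter.unusedSectionVars false

namespace Cfsg.Agent.Lib.Helper39

open Cfsg Cfsg.Agent.Lib Cfsg.Agent.Lib.Helper15
open scoped ComplexConjugate MatrixGroups

variable {F : Type*} [Field F] [Fintype F] [DecidableEq F]

theorem irr_of_aG_ne_zero {χ : GL (Fin 2) F → ℂ} (hχ : IsIrrCharacter (GL (Fin 2) F) χ)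
    (ha : aG χ ≠ 0) :
    (∃ α, χ = detChar α) ∨ (∃ α, χ = detChar α * stG) ∨ (∃ α β, α ≠ β ∧ χ = psG α β) := by
  rw [aG_eq_sum (irr_cf hχ)] at ha
  obtain ⟨α, -, h1⟩ := Finset.exists_ne_zero_of_sum_ne_zero ha
  obtain ⟨β, -, h2⟩ := Finset.exists_ne_zero_of_sum_ne_zero h1
  by_cases hαβ : α = β
  · subst hαβ
    rw [psG_diag, classInner_add_right] at h2
    by_cases h3 : classInner χ (detChar α) = 0
    · rw [h3, zero_add] at h2
      exact Or.inr (Or.inl ⟨α, irr_eq_of_inner_ne_zero hχ (detSt_irr α) h2⟩)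
    · exact Or.inl ⟨α, irr_eq_of_inner_ne_zero hχ (detChar_irr α) h3⟩
  · exact Or.inr (Or.inr ⟨α, β, hαβ, irr_eq_of_inner_ne_zero hχ (psG_irr hαβ) h2⟩)

theorem detChar_bG (α : MulChar F ℂ) (s t : Fˣ) (x : F) : detChar α (bG s t x) = α s * α t := by
  simp [detChar, bG_coe, Matrix.det_fin_two_of]

theorem one_apply_unit (s : Fˣ) : (1 : MulChar F ℂ) (s : F) = 1 := MulChar.one_apply s.isUnit

theorem detChar_one_apply (g : GL (Fin 2) F) : detChar (1 : MulChar F ℂ) g = 1 :=
  MulChar.one_apply ((Matrix.isUnit_iff_isUnit_det _).1 g.isUnit)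

theorem stG_split (g : GL (Fin 2) F)
    (h01 : (g : Matrix (Fin 2) (Fin 2) F) 0 1 = 0) (h10 : (g : Matrix (Fin 2) (Fin 2) F) 1 0 = 0)
    (hne : (g : Matrix (Fin 2) (Fin 2) F) 0 0 ≠ (g : Matrix (Fin 2) (Fin 2) F) 1 1) :
    stG g = 1 := by
  have hd := GL2_det_ne_zero g
  rw [h01, zero_mul, sub_zero] at hd
  have h0 := left_ne_zero_of_mul hd
  have h1 := right_ne_zero_of_mul hd
  unfold stG
  rw [Pi.sub_apply, psG_split _ _ g h01 h10 hne, detChar_one_apply,
    MulChar.one_apply (isUnit_iff_ne_zero.2 h0), MulChar.one_apply (isUnit_iff_ne_zero.2 h1)]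
  norm_num

theorem stG_elliptic (g : GL (Fin 2) F) (hg : Elliptic (g : Matrix (Fin 2) (Fin 2) F)) :
    stG g = -1 := by
  unfold stG
  rw [Pi.sub_apply, psG_elliptic _ _ g hg, detChar_one_apply]
  norm_num

theorem stG_unip (g : GL (Fin 2) F)
    (h10 : (g : Matrix (Fin 2) (Fin 2) F) 1 0 = 0)
    (heq : (g : Matrix (Fin 2) (Fin 2) F) 0 0 = (g : Matrix (Fin 2) (Fin 2) F) 1 1)
    (h01 : (g : Matrix (Fin 2) (Fin 2) F) 0 1 ≠ 0) : stG g = 0 := by
  have hd := GL2_det_ne_zero g
  rw [h10, mul_zero, sub_zero] at hd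
  have h0 := left_ne_zero_of_mul hd
  unfold stG
  rw [Pi.sub_apply, psG_unip _ _ g h10 heq h01, detChar_one_apply,
    MulChar.one_apply (isUnit_iff_ne_zero.2 h0)]
  norm_num

theorem detChar_injective : Function.Injective (detChar (F := F)) := by
  intro α α' h
  apply MulChar.ext
  intro s
  have := congrFun h (bG s 1 0)
  simpa [detChar_bG] using this

theorem detSt_injective : Function.Injective (fun α : MulChar F ℂ => detChar α * stG) := by
  intro α α' h
  apply MulChar.ext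
  intro s
  by_cases hs : s = 1
  · subst hs; simp
  · have := congrFun h (bG s 1 0)
    simp only [Pi.mul_apply, detChar_bG] at this
    rw [stG_split (bG s 1 0) rfl rfl (by
      simp only [bG_coe]
      intro hc
      apply hs
      apply Units.ext
      simpa using hc)] at this
    simpa using this

theorem detSt_one (α : MulChar F ℂ) :
    (detChar α * stG : GL (Fin 2) F → ℂ) 1 = (Fintype.card F : ℂ) := by
  rw [Pi.mul_apply, detChar_one, stG_one, one_mul]

theorem psG_u (α β : MulChar F ℂ) : psG α β (bG 1 1 1) = 1 := by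
  rw [psG_unip α β _ rfl rfl (by simp [bG_coe])]
  simp [bG_coe]

theorem stG_u : stG (bG (1 : Fˣ) 1 (1 : F)) = 0 :=
  stG_unip _ rfl rfl (by simp [bG_coe])

theorem detChar_u (α : MulChar F ℂ) : detChar α (bG 1 1 1) = 1 := by
  rw [detChar_bG]; simp

theorem aG_detChar (α : MulChar F ℂ) : aG (detChar α) = 1 := by
  rw [aG_eq (irr_cf (detChar_irr α)), detChar_one, detChar_u]
  have := card_F_ne_zero (F := F)
  field_simp
  ring

theorem aG_detSt (α : MulChar F ℂ) : aG (detChar α * stG) = 1 := by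
  rw [aG_eq (irr_cf (detSt_irr α)), detSt_one, Pi.mul_apply, stG_u]
  have := card_F_ne_zero (F := F)
  field_simp
  ring

theorem aG_psG (α β : MulChar F ℂ) : aG (psG α β) = 2 := by
  rw [aG_eq (char_cf (psG_char α β)), psG_one, psG_u]
  have := card_F_ne_zero (F := F)
  field_simp
  ring

/-- shape of a cuspidal character before counting. -/
theorem cuspidal_shape {χ : GL (Fin 2) F → ℂ} (hχ : IsIrrCharacter (GL (Fin 2) F) χ)
    (ha : aG χ = 0) :
    ∃ n : ℕ, 1 ≤ n ∧ χ 1 = n * ((Fintype.card F : ℂ) - 1) ∧ χ (bG 1 1 1) = -n := by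
  obtain ⟨n, hn⟩ := exists_bG (irr_char hχ)
  rw [aG_eq (irr_cf hχ)] at ha
  have hq := card_F_ne_zero (F := F)
  rw [div_eq_zero_iff, or_iff_left hq] at ha
  rw [div_eq_iff hq] at hn
  have h1 : χ (bG 1 1 1) = -n := by
    have : (Fintype.card F : ℂ) * (χ (bG 1 1 1) + n) = 0 := by linear_combination ha - hn
    rcases mul_eq_zero.1 this with h | h
    · exact absurd h hq
    · linear_combination h
  have h2 : χ 1 = n * ((Fintype.card F : ℂ) - 1) := by
    rw [h1] at ha
    linear_combination ha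
  refine ⟨n, ?_, h2, h1⟩
  rcases Nat.eq_zero_or_pos n with h | h
  · exfalso
    apply irr_one_ne_zero hχ
    rw [h2, h]; simp
  · exact h

open Classical in
/-- the linear characters -/
noncomputable def setL : Finset (GL (Fin 2) F → ℂ) := Finset.univ.image detChar

open Classical in
/-- the twisted Steinberg characters -/
noncomputable def setS : Finset (GL (Fin 2) F → ℂ) :=
  Finset.univ.image (fun α : MulChar F ℂ => detChar α * stG)

open Classical in
/-- the irreducible principal series -/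
noncomputable def setP : Finset (GL (Fin 2) F → ℂ) :=
  (Finset.univ : Finset (MulChar F ℂ)).offDiag.image (fun p => psG p.1 p.2)

theorem card_setL : (setL (F := F)).card = Fintype.card F - 1 := by
  classical
  rw [setL, Finset.card_image_of_injective _ detChar_injective, Finset.card_univ, mc_card]

theorem card_setS : (setS (F := F)).card = Fintype.card F - 1 := by
  classical
  rw [setS, Finset.card_image_of_injective _ detSt_injective, Finset.card_univ, mc_card]

theorem card_setP : 2 * (setP (F := F)).card = (Fintype.card F - 1) * (Fintype.card F - 1)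
    - (Fintype.card F - 1) := by
  classical
  rw [← mc_card, ← Finset.card_univ, ← Finset.offDiag_card,
    Finset.card_eq_sum_card_image (fun p : MulChar F ℂ × MulChar F ℂ => psG p.1 p.2)]
  rw [Finset.sum_const_nat (m := 2), mul_comm]
  · rfl
  · intro χ hχ
    obtain ⟨⟨α, β⟩, hp, rfl⟩ := Finset.mem_image.1 hχ
    have hne : α ≠ β := by simpa using hp
    have : (Finset.univ : Finset (MulChar F ℂ)).offDiag.filter
        (fun p => psG p.1 p.2 = psG α β) = {(α, β), (β, α)} := by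
      ext ⟨a, b⟩
      simp only [Finset.mem_filter, Finset.mem_offDiag, Finset.mem_univ, true_and,
        Finset.mem_insert, Finset.mem_singleton, Prod.mk.injEq, psG_eq_iff]
      constructor
      · rintro ⟨-, h⟩
        exact h
      · rintro (⟨rfl, rfl⟩ | ⟨rfl, rfl⟩)
        · exact ⟨hne, Or.inl ⟨rfl, rfl⟩⟩
        · exact ⟨hne.symm, Or.inr ⟨rfl, rfl⟩⟩
    rw [this, Finset.card_pair]
    intro h
    exact hne (Prod.mk.inj h).1

theorem mem_setL {χ : GL (Fin 2) F → ℂ} : χ ∈ setL ↔ ∃ α, χ = detChar α := by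
  classical
  simp [setL, eq_comm]

theorem mem_setS {χ : GL (Fin 2) F → ℂ} : χ ∈ setS ↔ ∃ α, χ = detChar α * stG := by
  classical
  simp [setS, eq_comm]

theorem mem_setP {χ : GL (Fin 2) F → ℂ} : χ ∈ setP ↔ ∃ α β, α ≠ β ∧ χ = psG α β := by
  classical
  simp [setP, eq_comm]

theorem card_GL2 : (Nat.card (GL (Fin 2) F) : ℂ)
    = ((Fintype.card F : ℂ) ^ 2 - 1) * ((Fintype.card F : ℂ) ^ 2 - (Fintype.card F : ℂ)) := by
  rw [Matrix.card_GL_field, Fin.prod_univ_two]
  have h1 : 1 ≤ Fintype.card F ^ 2 := Nat.one_le_pow _ _ Fintype.card_pos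
  have h2 : Fintype.card F ≤ Fintype.card F ^ 2 := Nat.le_self_pow (by norm_num) _
  simp only [Fin.val_zero, Fin.val_one, pow_zero, pow_one]
  rw [Nat.cast_mul, Nat.cast_sub h1, Nat.cast_sub h2]
  push_cast
  ring

open Classical in
/-- the cuspidal characters -/
noncomputable def setC : Finset (GL (Fin 2) F → ℂ) :=
  (irrSet (GL (Fin 2) F)).filter (fun χ => aG χ = 0)

theorem one_of_mem_setL {χ : GL (Fin 2) F → ℂ} (h : χ ∈ setL) : χ 1 = 1 := by
  obtain ⟨α, rfl⟩ := mem_setL.1 h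
  exact detChar_one α

theorem one_of_mem_setS {χ : GL (Fin 2) F → ℂ} (h : χ ∈ setS) : χ 1 = (Fintype.card F : ℂ) := by
  obtain ⟨α, rfl⟩ := mem_setS.1 h
  exact detSt_one α

theorem one_of_mem_setP {χ : GL (Fin 2) F → ℂ} (h : χ ∈ setP) :
    χ 1 = (Fintype.card F : ℂ) + 1 := by
  obtain ⟨α, β, -, rfl⟩ := mem_setP.1 h
  exact psG_one α β

theorem card_F_ne_one : (Fintype.card F : ℂ) ≠ 1 := by
  have := card_sub_one_ne_zero (F := F)
  intro h
  apply this
  rw [h, sub_self]

theorem sum_irr_GL2 (f : (GL (Fin 2) F → ℂ) → ℂ) :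
    ∑ χ ∈ irrSet (GL (Fin 2) F), f χ
      = ∑ χ ∈ setC, f χ + (∑ χ ∈ setL, f χ + ∑ χ ∈ setS, f χ + ∑ χ ∈ setP, f χ) := by
  classical
  rw [← Finset.sum_filter_add_sum_filter_not (irrSet (GL (Fin 2) F)) (fun χ => aG χ = 0)]
  congr 1
  have h1 : (irrSet (GL (Fin 2) F)).filter (fun χ => ¬ aG χ = 0) = (setL ∪ setS) ∪ setP := by
    ext χ
    simp only [Finset.mem_filter, mem_irrSet, Finset.mem_union, mem_setL, mem_setS, mem_setP]
    constructor
    · rintro ⟨h1, h2⟩
      rcases irr_of_aG_ne_zero h1 h2 with h | h | h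
      · exact Or.inl (Or.inl h)
      · exact Or.inl (Or.inr h)
      · exact Or.inr h
    · rintro ((⟨α, rfl⟩ | ⟨α, rfl⟩) | ⟨α, β, hne, rfl⟩)
      · exact ⟨detChar_irr α, by rw [aG_detChar]; norm_num⟩
      · exact ⟨detSt_irr α, by rw [aG_detSt]; norm_num⟩
      · exact ⟨psG_irr hne, by rw [aG_psG]; norm_num⟩
  rw [h1, Finset.sum_union, Finset.sum_union]
  · rw [Finset.disjoint_left]
    intro χ h1 h2
    have := one_of_mem_setL h1
    rw [one_of_mem_setS h2] at this
    exact card_F_ne_one this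
  · rw [Finset.disjoint_left]
    intro χ h1 h2
    have h3 := one_of_mem_setP h2
    rcases Finset.mem_union.1 h1 with h | h
    · rw [one_of_mem_setL h] at h3
      apply card_F_ne_zero (F := F)
      linear_combination -h3
    · rw [one_of_mem_setS h] at h3
      have : (0 : ℂ) = 1 := by linear_combination h3
      exact zero_ne_one this

theorem cast_card_setP : (2 : ℂ) * ((setP (F := F)).card : ℂ)
    = ((Fintype.card F : ℂ) - 1) * ((Fintype.card F : ℂ) - 2) := by
  have h := card_setP (F := F)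
  have h1 : Fintype.card F - 1 ≤ (Fintype.card F - 1) * (Fintype.card F - 1) :=
    Nat.le_mul_self _
  have h2 := congrArg (Nat.cast (R := ℂ)) h
  rw [Nat.cast_sub h1] at h2
  push_cast at h2
  rw [cast_card_sub_one] at h2
  linear_combination h2

/-- **Cuspidal characters of `GL₂(q)` have degree `q - 1`.** -/
theorem cuspidal_deg {χ : GL (Fin 2) F → ℂ} (hχ : IsIrrCharacter (GL (Fin 2) F) χ)
    (ha : aG χ = 0) : χ 1 = (Fintype.card F : ℂ) - 1 ∧ χ (bG 1 1 1) = -1 := by
  classical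
  have hsh : ∀ χ ∈ setC (F := F), ∃ n : ℕ, 1 ≤ n ∧ χ 1 = n * ((Fintype.card F : ℂ) - 1) ∧
      χ (bG 1 1 1) = -n := by
    intro χ h
    have h' := Finset.mem_filter.1 h
    exact cuspidal_shape (mem_irrSet.1 h'.1) h'.2
  choose! b hb using hsh
  have hcount := sum_irr_GL2 (F := F) (fun _ => 1)
  have hsq := sum_irr_GL2 (F := F) (fun χ => χ 1 ^ 2)
  rw [sum_sq_irrSet, card_GL2] at hsq
  simp only [Finset.sum_const, nsmul_eq_mul, mul_one] at hcount
  rw [card_irrSet, Cfsg.Agent.S2330.result, card_setL, card_setS, cast_card_sub_one] at hcount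
  have h1 : 1 ≤ Fintype.card F ^ 2 := Nat.one_le_pow _ _ Fintype.card_pos
  rw [Nat.cast_sub h1] at hcount
  push_cast at hcount
  rw [Finset.sum_congr rfl (fun χ h => by rw [one_of_mem_setL h] : ∀ χ ∈ setL (F := F),
      χ 1 ^ 2 = (1 : ℂ) ^ 2),
    Finset.sum_congr rfl (fun χ h => by rw [one_of_mem_setS h] : ∀ χ ∈ setS (F := F),
      χ 1 ^ 2 = (Fintype.card F : ℂ) ^ 2),
    Finset.sum_congr rfl (fun χ h => by rw [one_of_mem_setP h] : ∀ χ ∈ setP (F := F),
      χ 1 ^ 2 = ((Fintype.card F : ℂ) + 1) ^ 2),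
    Finset.sum_congr rfl (fun χ h => by rw [(hb χ h).2.1]; push_cast; ring : ∀ χ ∈ setC (F := F),
      χ 1 ^ 2 = ((Fintype.card F : ℂ) - 1) ^ 2 * ((b χ ^ 2 : ℕ) : ℂ))] at hsq
  simp only [Finset.sum_const, nsmul_eq_mul] at hsq
  rw [← Finset.mul_sum, card_setL, card_setS, cast_card_sub_one, ← Nat.cast_sum] at hsq
  have hP := cast_card_setP (F := F)
  have hq1 := card_sub_one_ne_zero (F := F)
  have key : ((∑ χ ∈ setC (F := F), b χ ^ 2 : ℕ) : ℂ) = ((setC (F := F)).card : ℂ) := by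
    have h2 : ((Fintype.card F : ℂ) - 1) ^ 2 * ((∑ χ ∈ setC (F := F), b χ ^ 2 : ℕ) : ℂ)
        = ((Fintype.card F : ℂ) - 1) ^ 2 * ((setC (F := F)).card : ℂ) := by
      linear_combination (-1 : ℂ) * hsq + ((Fintype.card F : ℂ) - 1) ^ 2 * hcount
        + (-2 * (Fintype.card F : ℂ)) * hP
    exact mul_left_cancel₀ (pow_ne_zero 2 hq1) h2
  have key' : ∑ χ ∈ setC (F := F), 1 = ∑ χ ∈ setC (F := F), b χ ^ 2 := by
    rw [Finset.sum_const, smul_eq_mul, mul_one]
    exact_mod_cast key.symm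
  have hall := (Finset.sum_eq_sum_iff_of_le (fun χ h => Nat.one_le_pow _ _ (hb χ h).1)).1 key'
  have hmem : χ ∈ setC := Finset.mem_filter.2 ⟨mem_irrSet.2 hχ, ha⟩
  have hb1 : b χ = 1 := by
    have := hall χ hmem
    exact (pow_eq_one_iff_of_nonneg (Nat.zero_le _) (by norm_num)).1 this.symm
  have := hb χ hmem
  rw [hb1] at this
  exact ⟨by simpa using this.2.1, by simpa using this.2.2⟩

/-- **Classification of the irreducible characters of `GL₂(q)`.** -/
theorem irr_GL2_cases {χ : GL (Fin 2) F → ℂ} (hχ : IsIrrCharacter (GL (Fin 2) F) χ) :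
    (∃ α, χ = detChar α) ∨ (∃ α, χ = detChar α * stG) ∨ (∃ α β, α ≠ β ∧ χ = psG α β) ∨
    (aG χ = 0 ∧ χ 1 = (Fintype.card F : ℂ) - 1 ∧ χ (bG 1 1 1) = -1) := by
  by_cases ha : aG χ = 0
  · exact Or.inr (Or.inr (Or.inr ⟨ha, cuspidal_deg hχ ha⟩))
  · rcases irr_of_aG_ne_zero hχ ha with h | h | h
    · exact Or.inl h
    · exact Or.inr (Or.inl h)
    · exact Or.inr (Or.inr (Or.inl h))

theorem inner_psG_eq_zero_of_cuspidal {χ : GL (Fin 2) F → ℂ}
    (hχ : IsCharacter (GL (Fin 2) F) χ) (ha : aG χ = 0) (α β : MulChar F ℂ) :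
    classInner χ (psG α β) = 0 := by
  rw [aG_eq_sum (char_cf hχ)] at ha
  have hn : ∀ α β : MulChar F ℂ, ∃ n : ℕ, classInner χ (psG α β) = n :=
    fun α β => inner_nat hχ (psG_char α β)
  choose n hn using hn
  simp_rw [hn] at ha
  rw [hn]
  have ha' : ∑ α : MulChar F ℂ, ∑ β : MulChar F ℂ, n α β = 0 := by exact_mod_cast ha
  have h1 := (Finset.sum_eq_zero_iff.1 ha') α (Finset.mem_univ _)
  have h2 := (Finset.sum_eq_zero_iff.1 h1) β (Finset.mem_univ _)
  rw [h2]; simp

theorem sum_bG_of_cuspidal {χ : GL (Fin 2) F → ℂ}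
    (hχ : IsCharacter (GL (Fin 2) F) χ) (ha : aG χ = 0) (s t : Fˣ) :
    ∑ x : F, χ (bG s t x) = 0 := by
  have h := fourier_BG χ (char_cf hχ) s t
  simp_rw [inner_psG_eq_zero_of_cuspidal hχ ha] at h
  simp only [mul_zero, Finset.sum_const_zero] at h
  rcases mul_eq_zero.1 h.symm with h | h
  · exact absurd (inv_eq_zero.1 h) card_F_ne_zero
  · exact h

theorem cuspidal_split {χ : GL (Fin 2) F → ℂ}
    (hχ : IsCharacter (GL (Fin 2) F) χ) (ha : aG χ = 0) {s t : Fˣ} (hst : s ≠ t) (x : F) :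
    χ (bG s t x) = 0 := by
  have h := sum_bG_of_cuspidal hχ ha s t
  simp_rw [cf_split (char_cf hχ) hst] at h
  rw [cf_split (char_cf hχ) hst]
  simp only [Finset.sum_const, Finset.card_univ, nsmul_eq_mul] at h
  rcases mul_eq_zero.1 h with h | h
  · exact absurd h card_F_ne_zero
  · exact h

theorem cast_card_setC : (2 : ℂ) * ((setC (F := F)).card : ℂ)
    = (Fintype.card F : ℂ) * ((Fintype.card F : ℂ) - 1) := by
  have hcount := sum_irr_GL2 (F := F) (fun _ => 1)
  simp only [Finset.sum_const, nsmul_eq_mul, mul_one] at hcount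
  rw [card_irrSet, Cfsg.Agent.S2330.result, card_setL, card_setS, cast_card_sub_one] at hcount
  have h1 : 1 ≤ Fintype.card F ^ 2 := Nat.one_le_pow _ _ Fintype.card_pos
  rw [Nat.cast_sub h1] at hcount
  push_cast at hcount
  have hP := cast_card_setP (F := F)
  linear_combination (-2 : ℂ) * hcount - hP

theorem card_setC : 2 * (setC (F := F)).card = Fintype.card F * (Fintype.card F - 1) := by
  have := cast_card_setC (F := F)
  rw [← cast_card_sub_one] at this
  exact_mod_cast this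

/-- every element of `GL₂` with vanishing lower left entry is some `bG s t x`. -/
theorem exists_eq_bG (g : GL (Fin 2) F) (h10 : (g : Matrix (Fin 2) (Fin 2) F) 1 0 = 0) :
    ∃ s t : Fˣ, (s : F) = (g : Matrix (Fin 2) (Fin 2) F) 0 0 ∧
      (t : F) = (g : Matrix (Fin 2) (Fin 2) F) 1 1 ∧
      g = bG s t ((g : Matrix (Fin 2) (Fin 2) F) 0 1) := by
  have hd := GL2_det_ne_zero g
  rw [h10, mul_zero, sub_zero] at hd
  refine ⟨Units.mk0 _ (left_ne_zero_of_mul hd), Units.mk0 _ (right_ne_zero_of_mul hd), rfl, rfl, ?_⟩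
  apply Units.ext
  rw [bG_coe]
  ext i j
  fin_cases i <;> fin_cases j <;> simp [h10]

end Cfsg.Agent.Lib.Helper39
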