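import Cfsg.Agent.Lib.Helper39.GL2Char.Classify

/-!
# The Borel subgroup of `SL₂(F)` and the principal series functions
-/

set_option autoImplicit false
set_option linter.unusedSectionVars false

namespace Cfsg.Agent.Lib.Helper39

open Cfsg Cfsg.Agent.Lib Cfsg.Agent.Lib.Helper15
open scoped ComplexConjugate MatrixGroups

/-- abbreviation for `SL₂(F)`. -/
abbrev SL2 (F : Type*) [Field F] := Matrix.SpecialLinearGroup (Fin 2) F

/-- the Borel subgroup of `SL₂(F)`. -/
abbrev BS (F : Type*) [Field F] : Subgroup (SL2 F) :=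
  (upperTriangularGL 2 F).comap Matrix.SpecialLinearGroup.toGL

section field
variable {F : Type*} [Field F]

theorem mem_BS_iff (g : SL2 F) : g ∈ BS F ↔ (g : Matrix (Fin 2) (Fin 2) F) 1 0 = 0 := by
  rw [Subgroup.mem_comap, mem_BG_iff]
  rfl

theorem SL2_det (g : SL2 F) :
    (g : Matrix (Fin 2) (Fin 2) F) 0 0 * (g : Matrix (Fin 2) (Fin 2) F) 1 1
      - (g : Matrix (Fin 2) (Fin 2) F) 0 1 * (g : Matrix (Fin 2) (Fin 2) F) 1 0 = 1 := by
  rw [← Matrix.det_fin_two]
  exact g.2

/-- the upper triangular matrix `[[s,x],[0,s⁻¹]]`. -/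
def bS (s : Fˣ) (x : F) : SL2 F :=
  ⟨!![(s : F), x; 0, ((s⁻¹ : Fˣ) : F)], by simp [Matrix.det_fin_two_of]⟩

theorem bS_coe (s : Fˣ) (x : F) :
    (bS s x : Matrix (Fin 2) (Fin 2) F) = !![(s : F), x; 0, ((s⁻¹ : Fˣ) : F)] := rfl

theorem bS_mem (s : Fˣ) (x : F) : bS s x ∈ BS F := by
  rw [mem_BS_iff, bS_coe]; rfl

/-- parametrisation of the Borel subgroup. -/
def bBS (p : Fˣ × F) : BS F := ⟨bS p.1 p.2, bS_mem _ _⟩

theorem exists_eq_bS (g : SL2 F) (h10 : (g : Matrix (Fin 2) (Fin 2) F) 1 0 = 0) :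
    ∃ s : Fˣ, (s : F) = (g : Matrix (Fin 2) (Fin 2) F) 0 0 ∧
      ((s⁻¹ : Fˣ) : F) = (g : Matrix (Fin 2) (Fin 2) F) 1 1 ∧
      g = bS s ((g : Matrix (Fin 2) (Fin 2) F) 0 1) := by
  have hd := SL2_det g
  rw [h10, mul_zero, sub_zero] at hd
  have h0 : (g : Matrix (Fin 2) (Fin 2) F) 0 0 ≠ 0 := by
    intro h
    rw [h, zero_mul] at hd
    exact zero_ne_one hd
  have h1 : ((Units.mk0 _ h0)⁻¹ : Fˣ) = (g : Matrix (Fin 2) (Fin 2) F) 1 1 := by
    rw [Units.val_inv_eq_inv_val, Units.val_mk0]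
    exact inv_eq_of_mul_eq_one_right hd
  refine ⟨Units.mk0 _ h0, rfl, h1, ?_⟩
  apply Subtype.ext
  rw [bS_coe, h1]
  ext i j
  fin_cases i <;> fin_cases j <;> simp [h10]

theorem bBS_bijective : Function.Bijective (bBS (F := F)) := by
  constructor
  · rintro ⟨s, x⟩ ⟨s', x'⟩ h
    have h1 : (bS s x : Matrix (Fin 2) (Fin 2) F) = bS s' x' :=
      congrArg (fun b : BS F => ((b : SL2 F) : Matrix (Fin 2) (Fin 2) F)) h
    rw [bS_coe, bS_coe] at h1
    have h00 := congrFun (congrFun h1 0) 0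
    have h01 := congrFun (congrFun h1 0) 1
    simp at h00 h01
    rw [Units.ext h00, h01]
  · rintro ⟨g, hg⟩
    rw [mem_BS_iff] at hg
    obtain ⟨s, -, -, h⟩ := exists_eq_bS g hg
    exact ⟨(s, _), Subtype.ext h.symm⟩

/-- representatives of the cosets of the Borel subgroup. -/
def rS : Option F → SL2 F
  | none => 1
  | some c => ⟨!![c, -1; 1, 0], by simp [Matrix.det_fin_two_of]⟩

def rSi (c : F) : SL2 F := ⟨!![0, 1; -1, c], by simp [Matrix.det_fin_two_of]⟩

theorem rS_some_coe (c : F) : (rS (some c) : Matrix (Fin 2) (Fin 2) F) = !![c, -1; 1, 0] := rfl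

theorem rSi_coe (c : F) : (rSi c : Matrix (Fin 2) (Fin 2) F) = !![0, 1; -1, c] := rfl

theorem rS_inv (c : F) : (rS (some c))⁻¹ = rSi c := by
  apply inv_eq_of_mul_eq_one_right
  apply Subtype.ext
  rw [Matrix.SpecialLinearGroup.coe_mul, rS_some_coe, rSi_coe]
  ext i j
  fin_cases i <;> fin_cases j <;> simp [Matrix.mul_apply, Fin.sum_univ_two]

theorem rS_bijective :
    Function.Bijective (fun p : Option F × BS F => rS p.1 * (p.2 : SL2 F)) := by
  have key : ∀ (c : F) (b : BS F),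
      ((rS (some c) * (b : SL2 F) : SL2 F) : Matrix (Fin 2) (Fin 2) F) 0 0
        = c * ((b : SL2 F) : Matrix (Fin 2) (Fin 2) F) 0 0 ∧
      ((rS (some c) * (b : SL2 F) : SL2 F) : Matrix (Fin 2) (Fin 2) F) 1 0
        = ((b : SL2 F) : Matrix (Fin 2) (Fin 2) F) 0 0 := by
    intro c b
    have hb := (mem_BS_iff _).1 b.2
    rw [Matrix.SpecialLinearGroup.coe_mul, rS_some_coe]
    constructor <;> simp [Matrix.mul_apply, Fin.sum_univ_two, hb]
  have hb0 : ∀ b : BS F, ((b : SL2 F) : Matrix (Fin 2) (Fin 2) F) 0 0 ≠ 0 := by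
    intro b
    have hb := (mem_BS_iff _).1 b.2
    have hd := SL2_det (b : SL2 F)
    rw [hb, mul_zero, sub_zero] at hd
    intro h
    rw [h, zero_mul] at hd
    exact zero_ne_one hd
  constructor
  · rintro ⟨l, b⟩ ⟨l', b'⟩ h
    simp only at h
    have hl : l = l' := by
      cases l with
      | none =>
        cases l' with
        | none => rfl
        | some c' =>
          exfalso
          have h1 := (key c' b').2
          rw [← h] at h1
          simp only [rS, one_mul] at h1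
          rw [(mem_BS_iff _).1 b.2] at h1
          exact hb0 b' h1.symm
      | some c =>
        cases l' with
        | none =>
          exfalso
          have h1 := (key c b).2
          rw [h] at h1
          simp only [rS, one_mul] at h1
          rw [(mem_BS_iff _).1 b'.2] at h1
          exact hb0 b h1.symm
        | some c' =>
          have h1 := (key c b).2
          have h2 := (key c b).1
          rw [h] at h1 h2
          rw [(key c' b').2] at h1
          rw [(key c' b').1, h1] at h2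
          rw [mul_right_cancel₀ (hb0 b) h2]
    subst hl
    have := mul_left_cancel h
    rw [Subtype.ext this]
  · intro y
    by_cases hy : (y : Matrix (Fin 2) (Fin 2) F) 1 0 = 0
    · exact ⟨(none, ⟨y, (mem_BS_iff _).2 hy⟩), by simp [rS]⟩
    · refine ⟨(some ((y : Matrix (Fin 2) (Fin 2) F) 0 0 / (y : Matrix (Fin 2) (Fin 2) F) 1 0),
        ⟨rSi ((y : Matrix (Fin 2) (Fin 2) F) 0 0 / (y : Matrix (Fin 2) (Fin 2) F) 1 0) * y, ?_⟩), ?_⟩
      · rw [mem_BS_iff, Matrix.SpecialLinearGroup.coe_mul, rSi_coe]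
        simp [Matrix.mul_apply, Fin.sum_univ_two]
        field_simp
        ring
      · simp only
        rw [← rS_inv, mul_inv_cancel_left]

end field

section finite
variable {F : Type*} [Field F] [Fintype F] [DecidableEq F]

/-- the linear character `α` of the Borel subgroup. -/
noncomputable def muS (α : MulChar F ℂ) : BS F → ℂ :=
  fun b => α (((b : SL2 F) : Matrix (Fin 2) (Fin 2) F) 0 0)

theorem muS_bBS (α : MulChar F ℂ) (s : Fˣ) (x : F) : muS α (bBS (s, x)) = α s := rfl

noncomputable def muSHom (α : MulChar F ℂ) : BS F →* ℂ where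
  toFun := muS α
  map_one' := by simp [muS]
  map_mul' := by
    intro a b
    have ha := (mem_BS_iff _).1 a.2
    have hb := (mem_BS_iff _).1 b.2
    simp only [muS, Subgroup.coe_mul, Matrix.SpecialLinearGroup.coe_mul, Matrix.mul_apply,
      Fin.sum_univ_two, hb, mul_zero, add_zero, map_mul]

theorem muS_irr (α : MulChar F ℂ) : IsIrrCharacter (BS F) (muS α) :=
  Helper3.isIrrCharacter_of_hom (muSHom α).toHomUnits

theorem ext_muS (α : MulChar F ℂ) (y : SL2 F) :
    extendByZero (BS F) (muS α) y =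
      if (y : Matrix (Fin 2) (Fin 2) F) 1 0 = 0 then
        α ((y : Matrix (Fin 2) (Fin 2) F) 0 0) else 0 := by
  split_ifs with h
  · rw [extendByZero_mem _ _ ((mem_BS_iff y).2 h)]
    rfl
  · rw [extendByZero_not_mem]
    rwa [mem_BS_iff]

/-- the principal series function. -/
noncomputable def psS (α : MulChar F ℂ) : SL2 F → ℂ := indFun (BS F) (muS α)

theorem psS_char (α : MulChar F ℂ) : IsCharacter (SL2 F) (psS α) :=
  char_indFun _ (irr_char (muS_irr α))

theorem psS_apply (α : MulChar F ℂ) (g : SL2 F) :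
    psS α g =
      (if (g : Matrix (Fin 2) (Fin 2) F) 1 0 = 0 then
        α ((g : Matrix (Fin 2) (Fin 2) F) 0 0) else 0) +
      ∑ c : F, if (g : Matrix (Fin 2) (Fin 2) F) 0 0 * c + (g : Matrix (Fin 2) (Fin 2) F) 0 1
          = c * ((g : Matrix (Fin 2) (Fin 2) F) 1 0 * c + (g : Matrix (Fin 2) (Fin 2) F) 1 1) then
        α ((g : Matrix (Fin 2) (Fin 2) F) 1 0 * c + (g : Matrix (Fin 2) (Fin 2) F) 1 1) else 0 := by
  unfold psS
  rw [indFun_eq_sum_transversal _ _ (irr_cf (muS_irr α)) rS rS_bijective, Fintype.sum_option]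
  congr 1
  · rw [ext_muS]
    simp [rS]
  · apply Finset.sum_congr rfl
    intro c _
    rw [ext_muS, rS_inv]
    have e10 : ((rSi c * g * rS (some c) : SL2 F) : Matrix (Fin 2) (Fin 2) F) 1 0
        = c * ((g : Matrix (Fin 2) (Fin 2) F) 1 0 * c + (g : Matrix (Fin 2) (Fin 2) F) 1 1)
          - ((g : Matrix (Fin 2) (Fin 2) F) 0 0 * c + (g : Matrix (Fin 2) (Fin 2) F) 0 1) := by
      rw [Matrix.SpecialLinearGroup.coe_mul, Matrix.SpecialLinearGroup.coe_mul, rSi_coe,
        rS_some_coe]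
      simp only [Matrix.mul_apply, Fin.sum_univ_two]
      simp
      ring
    have e00 : ((rSi c * g * rS (some c) : SL2 F) : Matrix (Fin 2) (Fin 2) F) 0 0
        = (g : Matrix (Fin 2) (Fin 2) F) 1 0 * c + (g : Matrix (Fin 2) (Fin 2) F) 1 1 := by
      rw [Matrix.SpecialLinearGroup.coe_mul, Matrix.SpecialLinearGroup.coe_mul, rSi_coe,
        rS_some_coe]
      simp only [Matrix.mul_apply, Fin.sum_univ_two]
      simp
    rw [e10, e00]
    simp only [sub_eq_zero]
    congr 1
    exact propext eq_comm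

/-- the principal series of `SL₂` is the restriction of the principal series of `GL₂`. -/
theorem psS_eq_psG (α : MulChar F ℂ) (g : SL2 F) :
    psS α g = psG α 1 (Matrix.SpecialLinearGroup.toGL g) := by
  rw [psS_apply, psG_apply]
  change _ = (if (g : Matrix (Fin 2) (Fin 2) F) 1 0 = 0 then
        α ((g : Matrix (Fin 2) (Fin 2) F) 0 0) * (1 : MulChar F ℂ) ((g : Matrix (Fin 2) (Fin 2) F) 1 1)
        else 0) +
      ∑ c : F, if (g : Matrix (Fin 2) (Fin 2) F) 0 0 * c + (g : Matrix (Fin 2) (Fin 2) F) 0 1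
          = c * ((g : Matrix (Fin 2) (Fin 2) F) 1 0 * c + (g : Matrix (Fin 2) (Fin 2) F) 1 1) then
        α ((g : Matrix (Fin 2) (Fin 2) F) 1 0 * c + (g : Matrix (Fin 2) (Fin 2) F) 1 1) *
          (1 : MulChar F ℂ) ((g : Matrix (Fin 2) (Fin 2) F) 0 0 - c * (g : Matrix (Fin 2) (Fin 2) F) 1 0)
        else 0
  have hd := SL2_det g
  congr 1
  · split_ifs with h
    · rw [MulChar.one_apply, mul_one]
      rw [h, mul_zero, sub_zero] at hd
      exact isUnit_iff_ne_zero.2 (fun h0 => by rw [h0, mul_zero] at hd; exact zero_ne_one hd)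
    · rfl
  · apply Finset.sum_congr rfl
    intro c _
    split_ifs with h
    · rw [MulChar.one_apply, mul_one]
      apply isUnit_iff_ne_zero.2
      intro h0
      have : (1 : F) = 0 := by
        have e : ((g : Matrix (Fin 2) (Fin 2) F) 1 0 * c + (g : Matrix (Fin 2) (Fin 2) F) 1 1) *
          ((g : Matrix (Fin 2) (Fin 2) F) 0 0 - c * (g : Matrix (Fin 2) (Fin 2) F) 1 0) = 1 := by
          linear_combination hd + (g : Matrix (Fin 2) (Fin 2) F) 1 0 * h
        rw [← e, h0, mul_zero]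
      exact one_ne_zero this
    · rfl

theorem psS_bS (α : MulChar F ℂ) (s : Fˣ) (x : F) :
    psS α (bS s x) = α s + ∑ c : F, if (s : F) * c + x = c * ((s⁻¹ : Fˣ) : F) then
      α ((s⁻¹ : Fˣ) : F) else 0 := by
  rw [psS_apply, bS_coe]
  simp

theorem sum_psS_bS (α : MulChar F ℂ) (s : Fˣ) :
    ∑ x : F, psS α (bS s x) = (Fintype.card F : ℂ) * (α s + α ((s⁻¹ : Fˣ) : F)) := by
  simp_rw [psS_bS]
  rw [Finset.sum_add_distrib, Finset.sum_comm]
  have h1 : ∀ c : F, (∑ x : F, if (s : F) * c + x = c * ((s⁻¹ : Fˣ) : F) then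
      α ((s⁻¹ : Fˣ) : F) else 0) = α ((s⁻¹ : Fˣ) : F) := by
    intro c
    rw [Finset.sum_eq_single (c * ((s⁻¹ : Fˣ) : F) - s * c)]
    · simp
    · intro b _ hb
      rw [if_neg]
      intro h
      apply hb
      rw [← h]; ring
    · intro h
      exact absurd (Finset.mem_univ _) h
  simp_rw [h1]
  simp only [Finset.sum_const, Finset.card_univ, nsmul_eq_mul]
  ring

theorem card_BS : (Nat.card (BS F) : ℂ) = (Fintype.card F : ℂ) * ((Fintype.card F : ℂ) - 1) := by
  rw [← Nat.card_congr (Equiv.ofBijective _ (bBS_bijective (F := F)))]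
  rw [Nat.card_prod, Nat.card_eq_fintype_card, Nat.card_eq_fintype_card, card_units_F]
  push_cast
  rw [cast_card_sub_one]
  ring

theorem card_SL2 : (Nat.card (SL2 F) : ℂ)
    = ((Fintype.card F : ℂ) + 1) * ((Fintype.card F : ℂ) * ((Fintype.card F : ℂ) - 1)) := by
  rw [← Nat.card_congr (Equiv.ofBijective _ (rS_bijective (F := F)))]
  rw [Nat.card_prod, Nat.cast_mul, card_BS, Nat.card_eq_fintype_card, Fintype.card_option]
  push_cast
  ring

theorem sum_BS [Fintype (BS F)] (f : BS F → ℂ) :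
    ∑ b, f b = ∑ s : Fˣ, ∑ x : F, f (bBS (s, x)) := by
  rw [← Function.Bijective.sum_comp (bBS_bijective (F := F)) f, Fintype.sum_prod_type]

theorem mc_inv_unit (α : MulChar F ℂ) (s : Fˣ) : α ((s⁻¹ : Fˣ) : F) = α⁻¹ (s : F) := by
  rw [MulChar.inv_apply', Units.val_inv_eq_inv_val]

theorem ite_arith2 (q : ℂ) (hq : q ≠ 0) (hq1 : q - 1 ≠ 0) (P1 P2 : Prop) [Decidable P1]
    [Decidable P2] :
    (q * (q - 1))⁻¹ * (q * ((if P1 then q - 1 else 0) + (if P2 then q - 1 else 0)))
      = (if P1 then 1 else 0) + (if P2 then 1 else 0) := by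
  by_cases h1 : P1 <;> by_cases h2 : P2 <;> simp [h1, h2] <;> field_simp

/-- the Mackey formula for the principal series of `SL₂`. -/
theorem inner_psS_psS (α α' : MulChar F ℂ) :
    classInner (psS α) (psS α') =
      (if α = α' then 1 else 0) + (if α = α'⁻¹ then 1 else 0) := by
  classical
  have := Fintype.ofFinite (BS F)
  unfold psS
  rw [classInner_indFun_left _ _ _ (indFun_isClassFunction _ _)]
  unfold classInner
  rw [sum_BS]
  have h1 : ∀ s : Fˣ, ∑ x : F, muS α (bBS (s, x)) *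
      conj (indFun (BS F) (muS α') (bBS (s, x) : SL2 F))
      = (Fintype.card F : ℂ) * (α s * conj (α' s) + α s * conj (α'⁻¹ s)) := by
    intro s
    simp_rw [muS_bBS]
    rw [← Finset.mul_sum, ← map_sum]
    have := sum_psS_bS α' s
    unfold psS at this
    change α s * conj (∑ x : F, indFun (BS F) (muS α') (bS s x)) = _
    rw [this, mc_inv_unit]
    simp only [map_mul, map_add, Complex.conj_natCast]
    ring
  simp_rw [h1]
  simp_rw [← Finset.mul_sum, Finset.sum_add_distrib]
  rw [sum_units_eq (fun s => α s * conj (α' s)) (by simp [MulChar.map_zero]),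
    sum_units_eq (fun s => α s * conj (α'⁻¹ s)) (by simp [MulChar.map_zero])]
  rw [mc_sum_mul_conj, mc_sum_mul_conj, card_BS]
  exact ite_arith2 _ card_F_ne_zero card_sub_one_ne_zero _ _

theorem eq_inv_iff_sq (α : MulChar F ℂ) : α = α⁻¹ ↔ α ^ 2 = 1 := by
  rw [pow_two, eq_inv_iff_mul_eq_one]

theorem psS_irr_iff (α : MulChar F ℂ) : IsIrrCharacter (SL2 F) (psS α) ↔ α ^ 2 ≠ 1 := by
  rw [isIrr_iff, inner_psS_psS, Ne, ← eq_inv_iff_sq]
  constructor
  · rintro ⟨-, h⟩ hc
    rw [if_pos rfl, if_pos hc] at h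
    norm_num at h
  · intro h
    exact ⟨psS_char α, by rw [if_pos rfl, if_neg h, add_zero]⟩

theorem psS_inv (α : MulChar F ℂ) : psS α⁻¹ = psS α := by
  rw [← sub_eq_zero]
  apply classInner_self_eq_zero
  rw [classInner_sub_left, classInner_sub_right, classInner_sub_right, inner_psS_psS,
    inner_psS_psS, inner_psS_psS, inner_psS_psS]
  by_cases h : α = α⁻¹
  · have h' : α⁻¹ = α := h.symm
    simp [h']
  · have h' : ¬ α⁻¹ = α := fun hc => h hc.symm
    simp [h, h']

theorem psS_eq_iff (α α' : MulChar F ℂ) : psS α = psS α' ↔ α = α' ∨ α = α'⁻¹ := by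
  constructor
  · intro h
    have h1 := inner_psS_psS α α'
    rw [← h, inner_psS_psS] at h1
    by_contra hc
    push Not at hc
    rw [if_neg hc.1, if_neg hc.2, if_pos rfl] at h1
    split_ifs at h1 <;> norm_num at h1
  · rintro (rfl | rfl)
    · rfl
    · exact psS_inv _

end finite

end Cfsg.Agent.Lib.Helper39
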