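import Cfsg.Agent.Lib.Helper39.GL2Char.SMult

/-!
# Classification of the irreducible characters of `SL₂(F)`: the non-cuspidal part
-/

set_option autoImplicit false
set_option linter.unusedSectionVars false

namespace Cfsg.Agent.Lib.Helper39

open Cfsg Cfsg.Agent.Lib Cfsg.Agent.Lib.Helper15
open scoped ComplexConjugate MatrixGroups

/-- a character of norm two is the sum of two distinct irreducible characters. -/
theorem char_norm_two {G : Type*} [Group G] [Fintype G] {φ : G → ℂ} (hφ : IsCharacter G φ)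
    (h2 : classInner φ φ = 2) :
    ∃ χ₁ χ₂ : G → ℂ, IsIrrCharacter G χ₁ ∧ IsIrrCharacter G χ₂ ∧ χ₁ ≠ χ₂ ∧ φ = χ₁ + χ₂ := by
  have h0 : φ ≠ 0 := by
    rintro rfl
    rw [classInner_zero_left] at h2
    norm_num at h2
  obtain ⟨χ₁, hχ₁, hne⟩ := exists_constituent hφ h0
  obtain ⟨m, hm⟩ := inner_nat hφ (irr_char hχ₁)
  have hρ := char_sub_irr hφ hχ₁ hne
  obtain ⟨k, hk⟩ := inner_nat hρ hρ
  have hm' : classInner χ₁ φ = m := by
    rw [inner_comm_of_char (irr_char hχ₁) hφ, hm]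
  rw [classInner_sub_left, classInner_sub_right, classInner_sub_right, h2, hm, hm',
    irr_inner_self hχ₁] at hk
  have hkm : k + 2 * m = 3 := by
    have : (k : ℂ) + 2 * m = 3 := by linear_combination -hk
    exact_mod_cast this
  have hm0 : m ≠ 0 := by
    rintro rfl
    apply hne
    rw [hm]; simp
  have hm1 : m = 1 := by omega
  have hk1 : k = 1 := by omega
  subst hm1 hk1
  refine ⟨χ₁, φ - χ₁, hχ₁, ?_, ?_, by abel⟩
  · rw [isIrr_iff]
    refine ⟨hρ, ?_⟩
    rw [classInner_sub_left, classInner_sub_right, classInner_sub_right, h2, hm, hm',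
      irr_inner_self hχ₁]
    norm_num
  · intro h
    have h3 : classInner (φ - χ₁) χ₁ = 0 := by
      rw [classInner_sub_left, hm, irr_inner_self hχ₁]; norm_num
    rw [← h, irr_inner_self hχ₁] at h3
    exact one_ne_zero h3

variable {F : Type*} [Field F] [Fintype F] [DecidableEq F]

theorem irr_of_aS_ne_zero {θ : SL2 F → ℂ} (hθ : IsIrrCharacter (SL2 F) θ) (ha : aS θ ≠ 0) :
    θ = (fun _ => 1) ∨ θ = stS ∨ (∃ α : MulChar F ℂ, α ^ 2 ≠ 1 ∧ θ = psS α) ∨
      (∃ α : MulChar F ℂ, α ^ 2 = 1 ∧ α ≠ 1 ∧ classInner θ (psS α) ≠ 0) := by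
  rw [aS_eq_sum (irr_cf hθ)] at ha
  obtain ⟨α, -, h1⟩ := Finset.exists_ne_zero_of_sum_ne_zero ha
  by_cases hα : α ^ 2 = 1
  · by_cases hα1 : α = 1
    · subst hα1
      rw [psS_one_eq, classInner_add_right] at h1
      by_cases h3 : classInner θ (fun _ => (1 : ℂ)) = 0
      · rw [h3, zero_add] at h1
        exact Or.inr (Or.inl (irr_eq_of_inner_ne_zero hθ stS_irr h1))
      · exact Or.inl (irr_eq_of_inner_ne_zero hθ one_irr_S h3)
    · exact Or.inr (Or.inr (Or.inr ⟨α, hα, hα1, h1⟩))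
  · exact Or.inr (Or.inr (Or.inl ⟨α, hα,
      irr_eq_of_inner_ne_zero hθ ((psS_irr_iff α).2 hα) h1⟩))

/-- lower unitriangular matrices -/
def lS (x : F) : SL2 F := ⟨!![1, 0; x, 1], by simp [Matrix.det_fin_two_of]⟩

theorem lS_coe (x : F) : (lS x : Matrix (Fin 2) (Fin 2) F) = !![1, 0; x, 1] := rfl

theorem lS_eq_conj (x : F) : lS x = rS (some 0) * bS 1 (-x) * (rS (some 0))⁻¹ := by
  rw [rS_inv]
  apply Subtype.ext
  rw [Matrix.SpecialLinearGroup.coe_mul, Matrix.SpecialLinearGroup.coe_mul, rS_some_coe, rSi_coe,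
    bS_coe, lS_coe]
  ext i j
  fin_cases i <;> fin_cases j <;> simp [Matrix.mul_apply, Fin.sum_univ_two]

theorem SL2_eq_prod (g : SL2 F) (hc : (g : Matrix (Fin 2) (Fin 2) F) 1 0 ≠ 0) :
    g = bS 1 (((g : Matrix (Fin 2) (Fin 2) F) 0 0 - 1) / (g : Matrix (Fin 2) (Fin 2) F) 1 0) *
      lS ((g : Matrix (Fin 2) (Fin 2) F) 1 0) *
      bS 1 (((g : Matrix (Fin 2) (Fin 2) F) 1 1 - 1) / (g : Matrix (Fin 2) (Fin 2) F) 1 0) := by
  have hd := SL2_det g
  apply Subtype.ext
  rw [Matrix.SpecialLinearGroup.coe_mul, Matrix.SpecialLinearGroup.coe_mul, bS_coe, bS_coe, lS_coe]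
  ext i j
  fin_cases i <;> fin_cases j
  · simp [Matrix.mul_apply, Fin.sum_univ_two]
    field_simp
    ring
  · simp [Matrix.mul_apply, Fin.sum_univ_two]
    field_simp
    linear_combination -hd
  · simp [Matrix.mul_apply, Fin.sum_univ_two]
  · simp [Matrix.mul_apply, Fin.sum_univ_two]
    field_simp
    ring

/-- a linear character which is trivial on `U` is trivial. -/
theorem eq_one_of_linear {θ : SL2 F → ℂ} (hθ : IsCharacter (SL2 F) θ) (h1 : θ 1 = 1)
    (hU : ∀ x : F, θ (bS 1 x) = 1) : θ = fun _ => 1 := by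
  have hmul := linear_mul hθ h1
  have hL : ∀ x : F, θ (lS x) = 1 := by
    intro x
    rw [lS_eq_conj, char_cf hθ, hU]
  have hgen : ∀ g : SL2 F, (g : Matrix (Fin 2) (Fin 2) F) 1 0 ≠ 0 → θ g = 1 := by
    intro g hg
    rw [SL2_eq_prod g hg, hmul, hmul, hU, hU, hL]
    norm_num
  funext g
  by_cases hg : (g : Matrix (Fin 2) (Fin 2) F) 1 0 = 0
  · have h2 : θ (g * lS 1) = 1 := by
      apply hgen
      rw [Matrix.SpecialLinearGroup.coe_mul, lS_coe]
      simp only [Matrix.mul_apply, Fin.sum_univ_two]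
      simp only [hg]
      obtain ⟨s, -, hs, -⟩ := exists_eq_bS g hg
      simp [← hs]
    rw [hmul, hL, mul_one] at h2
    exact h2
  · exact hgen g hg

theorem psS_u (α : MulChar F ℂ) {x : F} (hx : x ≠ 0) : psS α (bS 1 x) = 1 := by
  rw [psS_unip α _ rfl (by simp [bS_coe]) (by simpa [bS_coe] using hx)]
  simp [bS_coe]

theorem aS_psS (α : MulChar F ℂ) : aS (psS α) = 2 := by
  rw [aS_eq_addMult, addMult_one_of_const (c := 1) (fun x hx => psS_u α hx), bS_one, psS_one]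
  have := card_F_ne_zero (F := F)
  field_simp
  ring

theorem mS_psS {ψ : AddChar F ℂ} (hψ : ψ.IsPrimitive) (α : MulChar F ℂ) {c : F} (hc : c ≠ 0) :
    mS ψ (psS α) c = 1 := by
  rw [mS, addMult_of_const (c := 1) (fun x hx => psS_u α hx) (hψ hc), bS_one, psS_one]
  have := card_F_ne_zero (F := F)
  field_simp
  ring

theorem aS_one : aS (fun _ : SL2 F => (1 : ℂ)) = 1 := by
  unfold aS
  have := card_F_ne_zero (F := F)
  simp [this]

theorem aS_add (θ θ' : SL2 F → ℂ) : aS (θ + θ') = aS θ + aS θ' := by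
  rw [aS_eq_addMult, aS_eq_addMult, aS_eq_addMult, ← addMult_add]
  rfl

theorem aS_stS : aS (stS (F := F)) = 1 := by
  have h := aS_psS (1 : MulChar F ℂ)
  rw [psS_one_eq, aS_add, aS_one] at h
  linear_combination h

theorem aS_nat {θ : SL2 F → ℂ} (hθ : IsCharacter (SL2 F) θ) : ∃ n : ℕ, aS θ = n := by
  rw [aS_eq_addMult]
  exact addMult_nat uS hθ 1

/-- a lower bound for `aS`. -/
theorem aS_ne_zero_of_inner {θ : SL2 F → ℂ} (hθ : IsCharacter (SL2 F) θ) (α : MulChar F ℂ)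
    (h : classInner θ (psS α) ≠ 0) : aS θ ≠ 0 := by
  rw [aS_eq_sum (char_cf hθ)]
  have hn : ∀ α : MulChar F ℂ, ∃ n : ℕ, classInner θ (psS α) = n :=
    fun α => inner_nat hθ (psS_char α)
  choose n hn using hn
  simp_rw [hn]
  rw [hn] at h
  intro h0
  have h0' : ∑ α : MulChar F ℂ, n α = 0 := by exact_mod_cast h0
  have := (Finset.sum_eq_zero_iff.1 h0') α (Finset.mem_univ _)
  rw [this] at h
  simp at h

theorem inner_psS_eq_zero_of_cuspidal {θ : SL2 F → ℂ} (hθ : IsCharacter (SL2 F) θ)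
    (ha : aS θ = 0) (α : MulChar F ℂ) : classInner θ (psS α) = 0 := by
  by_contra h
  exact aS_ne_zero_of_inner hθ α h ha

theorem sum_bS_of_cuspidal {θ : SL2 F → ℂ} (hθ : IsCharacter (SL2 F) θ) (ha : aS θ = 0)
    (s : Fˣ) : ∑ x : F, θ (bS s x) = 0 := by
  have h := fourier_BS θ (char_cf hθ) s
  simp_rw [inner_psS_eq_zero_of_cuspidal hθ ha] at h
  simp only [mul_zero, Finset.sum_const_zero] at h
  rcases mul_eq_zero.1 h.symm with h | h
  · exact absurd (inv_eq_zero.1 h) card_F_ne_zero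
  · exact h

theorem cuspidal_split_S {θ : SL2 F → ℂ} (hθ : IsCharacter (SL2 F) θ) (ha : aS θ = 0) {s : Fˣ}
    (hs : (s : F) ^ 2 ≠ 1) (x : F) : θ (bS s x) = 0 := by
  have h := sum_bS_of_cuspidal hθ ha s
  simp_rw [cf_bS_split (char_cf hθ) hs] at h
  rw [cf_bS_split (char_cf hθ) hs]
  simp only [Finset.sum_const, Finset.card_univ, nsmul_eq_mul] at h
  rcases mul_eq_zero.1 h with h | h
  · exact absurd h card_F_ne_zero
  · exact h

end Cfsg.Agent.Lib.Helper39
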