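import Cfsg.Agent.Lib.Helper39.GL2Char.SSets
import Cfsg.Agent.S2331

/-!
# The irreducible characters of `SL₂(F)`, `F` of characteristic two
-/

set_option autoImplicit false
set_option linter.unusedSectionVars false

namespace Cfsg.Agent.Lib.Helper39

open Cfsg Cfsg.Agent.Lib Cfsg.Agent.Lib.Helper15
open scoped ComplexConjugate MatrixGroups

variable {F : Type*} [Field F] [Fintype F] [DecidableEq F]

theorem even_card_of_char_two [CharP F 2] : Fintype.card F % 2 = 0 :=
  FiniteField.even_card_iff_char_two.1 (ringChar.eq F 2)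

theorem mc_eq_one_of_sq_even [CharP F 2] {α : MulChar F ℂ} (h : α ^ 2 = 1) : α = 1 := by
  have h1 : orderOf α ∣ 2 := orderOf_dvd_of_pow_eq_one h
  have h2 : orderOf α ∣ Fintype.card F - 1 := MulChar.orderOf_dvd_card_sub_one _ α
  have h3 := even_card_of_char_two (F := F)
  have h4 := one_lt_card_F (F := F)
  have h5 : Nat.Coprime 2 (Fintype.card F - 1) := by
    rw [Nat.coprime_two_left]
    rw [Nat.odd_iff]
    omega
  have h6 : orderOf α = 1 := Nat.eq_one_of_dvd_coprimes h5 h1 h2
  exact orderOf_eq_one_iff.1 h6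

theorem setHS_eq_empty [CharP F 2] : setHS (F := F) = ∅ := by
  rw [Finset.eq_empty_iff_forall_notMem]
  intro θ h
  obtain ⟨-, α, hα, hα1, -⟩ := mem_setHS.1 h
  exact hα1 (mc_eq_one_of_sq_even hα)

theorem mS_const_even [CharP F 2] (ψ : AddChar F ℂ) {θ : SL2 F → ℂ}
    (hθ : IsClassFunction (SL2 F) θ) {c : F} (hc : c ≠ 0) : mS ψ θ c = mS ψ θ 1 := by
  obtain ⟨r, hr⟩ := FiniteField.isSquare_of_char_two (ringChar.eq F 2) c
  have hr0 : r ≠ 0 := by
    rintro rfl
    apply hc
    rw [hr, mul_zero]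
  have := mS_sq ψ hθ 1 (Units.mk0 r hr0)
  rw [← this, hr]
  congr 1
  simp [pow_two]

theorem cuspidal_even [CharP F 2] {θ : SL2 F → ℂ} (hθ : IsIrrCharacter (SL2 F) θ)
    (ha : aS θ = 0) : θ 1 = (Fintype.card F : ℂ) - 1 := by
  classical
  obtain ⟨ψ, hψ⟩ := exists_addChar_ne_one (F := F)
  have h1 := deg_eq_sum_mS hψ θ
  rw [sum_ne_zero_eq, mS_zero, ha, zero_add,
    Finset.sum_congr rfl (fun c hc => mS_const_even ψ (irr_cf hθ) (Finset.ne_of_mem_erase hc))] at h1
  rw [Finset.sum_const, Finset.card_erase_of_mem (Finset.mem_univ _), Finset.card_univ,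
    nsmul_eq_mul, cast_card_sub_one] at h1
  rcases mS_01 hψ hθ (one_ne_zero (α := F)) with h | h
  · rw [h, mul_zero] at h1
    exact absurd h1 (irr_one_ne_zero hθ)
  · rw [h, mul_one] at h1
    exact h1

/-- classification of the irreducible characters of `SL₂(2^n)`. -/
theorem irr_SL2_even_cases [CharP F 2] {θ : SL2 F → ℂ} (hθ : IsIrrCharacter (SL2 F) θ) :
    θ = (fun _ => 1) ∨ θ = stS ∨ (∃ α : MulChar F ℂ, α ^ 2 ≠ 1 ∧ θ = psS α) ∨
      (aS θ = 0 ∧ θ 1 = (Fintype.card F : ℂ) - 1) := by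
  by_cases ha : aS θ = 0
  · exact Or.inr (Or.inr (Or.inr ⟨ha, cuspidal_even hθ ha⟩))
  · rcases irr_of_aS_ne_zero hθ ha with h | h | h | ⟨α, hα, hα1, -⟩
    · exact Or.inl h
    · exact Or.inr (Or.inl h)
    · exact Or.inr (Or.inr (Or.inl h))
    · exact absurd (mc_eq_one_of_sq_even hα) hα1

open Classical in
theorem card_filter_sq_ne_one_even [CharP F 2] :
    ((Finset.univ : Finset (MulChar F ℂ)).filter (fun α => α ^ 2 ≠ 1)).card
      = Fintype.card F - 2 := by
  have : (Finset.univ : Finset (MulChar F ℂ)).filter (fun α => α ^ 2 ≠ 1)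
      = Finset.univ.erase 1 := by
    ext α
    simp only [Finset.mem_filter, Finset.mem_univ, true_and, Finset.mem_erase, and_true]
    constructor
    · rintro h rfl
      exact h (one_pow 2)
    · intro h h2
      exact h (mc_eq_one_of_sq_even h2)
  rw [this, Finset.card_erase_of_mem (Finset.mem_univ _), Finset.card_univ, mc_card]
  omega

theorem card_setPS_even [CharP F 2] : 2 * (setPS (F := F)).card = Fintype.card F - 2 := by
  rw [card_setPS, card_filter_sq_ne_one_even]

theorem card_setCS_even [CharP F 2] : 2 * (setCS (F := F)).card = Fintype.card F := by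
  have hcount := sum_irr_SL2 (F := F) (fun _ => 1)
  simp only [Finset.sum_const, nsmul_eq_mul, mul_one] at hcount
  rw [card_irrSet, Cfsg.Agent.S2331.result, setHS_eq_empty, Finset.card_empty] at hcount
  have h1 : Fintype.card F + 1 = (setCS (F := F)).card + (1 + 1 + (setPS (F := F)).card + 0) := by
    exact_mod_cast hcount
  have h2 := card_setPS_even (F := F)
  have h3 := one_lt_card_F (F := F)
  omega

end Cfsg.Agent.Lib.Helper39
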