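import Cfsg.Agent.Lib.Helper39.GL2Char.SValues

/-!
# Multiplicities of additive characters in the restriction to `U` of characters of `SL₂(F)`
-/

set_option autoImplicit false
set_option linter.unusedSectionVars false

namespace Cfsg.Agent.Lib.Helper39

open Cfsg Cfsg.Agent.Lib Cfsg.Agent.Lib.Helper15
open scoped ComplexConjugate MatrixGroups

variable {F : Type*} [Field F] [Fintype F] [DecidableEq F]

/-- Fourier inversion on the additive group of `F`. -/
theorem addMult_inversion (f : F → ℂ) {ψ : AddChar F ℂ} (hψ : ψ.IsPrimitive) (y : F) :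
    ∑ c : F, addMult f (ψ.mulShift c) * ψ (c * y) = f y := by
  unfold addMult
  have h1 : ∀ c : F, (Fintype.card F : ℂ)⁻¹ * (∑ x : F, f x * conj ((ψ.mulShift c) x)) * ψ (c * y)
      = (Fintype.card F : ℂ)⁻¹ * ∑ x : F, f x * ψ (c * (y - x)) := by
    intro c
    rw [mul_assoc, Finset.sum_mul]
    congr 1
    apply Finset.sum_congr rfl
    intro x _
    rw [AddChar.mulShift_apply, ← AddChar.map_neg_eq_conj, mul_assoc, ← AddChar.map_add_eq_mul]
    congr 2
    ring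
  simp_rw [h1]
  rw [← Finset.mul_sum, Finset.sum_comm]
  simp_rw [← Finset.mul_sum, AddChar.sum_mulShift _ hψ]
  rw [Finset.sum_eq_single y]
  · have hq := card_F_ne_zero (F := F)
    simp
    field_simp
  · intro x _ hx
    rw [if_neg (sub_ne_zero.2 (Ne.symm hx))]
    simp
  · intro h
    exact absurd (Finset.mem_univ _) h

/-- the multiplicity of `ψ_c` in `θ|_U`. -/
noncomputable def mS (ψ : AddChar F ℂ) (θ : SL2 F → ℂ) (c : F) : ℂ :=
  addMult (fun x => θ (bS 1 x)) (ψ.mulShift c)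

theorem mS_zero (ψ : AddChar F ℂ) (θ : SL2 F → ℂ) : mS ψ θ 0 = aS θ := by
  rw [mS, AddChar.mulShift_zero, aS_eq_addMult]

theorem mS_add (ψ : AddChar F ℂ) (θ θ' : SL2 F → ℂ) (c : F) :
    mS ψ (θ + θ') c = mS ψ θ c + mS ψ θ' c := by
  unfold mS
  rw [← addMult_add]
  rfl

theorem mS_nat (ψ : AddChar F ℂ) {θ : SL2 F → ℂ} (hθ : IsCharacter (SL2 F) θ) (c : F) :
    ∃ n : ℕ, mS ψ θ c = n := addMult_nat uS hθ _

theorem mS_01 {ψ : AddChar F ℂ} (hψ : ψ.IsPrimitive) {θ : SL2 F → ℂ}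
    (hθ : IsIrrCharacter (SL2 F) θ) {c : F} (hc : c ≠ 0) : mS ψ θ c = 0 ∨ mS ψ θ c = 1 :=
  mult_le_one_SL2 hθ (hψ hc)

theorem mS_sq (ψ : AddChar F ℂ) {θ : SL2 F → ℂ} (hθ : IsClassFunction (SL2 F) θ) (c : F)
    (t : Fˣ) : mS ψ θ (c * (t : F) ^ 2) = mS ψ θ c := by
  unfold mS addMult
  congr 1
  have ht : (t : F) ^ 2 ≠ 0 := pow_ne_zero 2 t.ne_zero
  refine Fintype.sum_bijective (fun x => (t : F) ^ 2 * x) (mulLeft_bijective₀ _ ht) _ _ ?_
  intro x
  simp only [AddChar.mulShift_apply]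
  rw [cf_bS_sq hθ 1 t x, mul_assoc]

theorem value_eq_sum_mS {ψ : AddChar F ℂ} (hψ : ψ.IsPrimitive) (θ : SL2 F → ℂ) (y : F) :
    θ (bS 1 y) = ∑ c : F, mS ψ θ c * ψ (c * y) :=
  (addMult_inversion (fun x => θ (bS 1 x)) hψ y).symm

theorem deg_eq_sum_mS {ψ : AddChar F ℂ} (hψ : ψ.IsPrimitive) (θ : SL2 F → ℂ) :
    θ 1 = ∑ c : F, mS ψ θ c := by
  rw [← bS_one, value_eq_sum_mS hψ θ 0]
  simp

theorem sum_ne_zero_eq (g : F → ℂ) : ∑ c : F, g c = g 0 + ∑ c ∈ Finset.univ.erase (0 : F), g c := by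
  rw [Finset.add_sum_erase _ _ (Finset.mem_univ _)]

theorem sum_erase_addChar {ψ : AddChar F ℂ} (hψ : ψ.IsPrimitive) {y : F} (hy : y ≠ 0) :
    ∑ c ∈ Finset.univ.erase (0 : F), ψ (c * y) = -1 := by
  have h := AddChar.sum_mulShift y hψ
  rw [if_neg hy, sum_ne_zero_eq (fun c => ψ (c * y))] at h
  simp only [zero_mul, AddChar.map_zero_eq_one, Nat.cast_zero] at h
  linear_combination h

/-- if all nontrivial characters of `U` occur (once) then the value at a transvection is `a - 1`. -/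
theorem value_of_full {ψ : AddChar F ℂ} (hψ : ψ.IsPrimitive) {θ : SL2 F → ℂ}
    (hθ : IsIrrCharacter (SL2 F) θ) (hdeg : θ 1 = aS θ + ((Fintype.card F : ℂ) - 1)) {y : F}
    (hy : y ≠ 0) : θ (bS 1 y) = aS θ - 1 := by
  classical
  have h01 : ∀ c ∈ Finset.univ.erase (0 : F), ∃ n : ℕ, n ≤ 1 ∧ mS ψ θ c = n := by
    intro c hc
    rcases mS_01 hψ hθ (Finset.ne_of_mem_erase hc) with h | h
    · exact ⟨0, by norm_num, by simpa using h⟩
    · exact ⟨1, le_refl _, by simpa using h⟩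
  choose! n hn using h01
  have h1 := deg_eq_sum_mS hψ θ
  rw [sum_ne_zero_eq, mS_zero, hdeg] at h1
  have h2 : ∑ c ∈ Finset.univ.erase (0 : F), mS ψ θ c = ((∑ c ∈ Finset.univ.erase (0 : F), n c : ℕ) : ℂ) := by
    rw [Nat.cast_sum]
    exact Finset.sum_congr rfl (fun c hc => (hn c hc).2)
  rw [h2, ← cast_card_sub_one] at h1
  have h3 : ∑ c ∈ Finset.univ.erase (0 : F), n c = ∑ c ∈ Finset.univ.erase (0 : F), 1 := by
    rw [Finset.sum_const, smul_eq_mul, mul_one, Finset.card_erase_of_mem (Finset.mem_univ _),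
      Finset.card_univ]
    have : ((Fintype.card F - 1 : ℕ) : ℂ) = ((∑ c ∈ Finset.univ.erase (0 : F), n c : ℕ) : ℂ) := by
      linear_combination h1
    exact_mod_cast this.symm
  have h4 := (Finset.sum_eq_sum_iff_of_le (fun c hc => (hn c hc).1)).1 h3
  rw [value_eq_sum_mS hψ θ y, sum_ne_zero_eq, mS_zero]
  simp only [zero_mul, AddChar.map_zero_eq_one, mul_one]
  rw [Finset.sum_congr rfl (fun c hc => by rw [(hn c hc).2, h4 c hc]; simp :
    ∀ c ∈ Finset.univ.erase (0 : F), mS ψ θ c * ψ (c * y) = ψ (c * y)), sum_erase_addChar hψ hy]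
  ring

end Cfsg.Agent.Lib.Helper39
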