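import Cfsg.Agent.Lib.Helper39.GL2Char.SClassify

/-!
# The partition of `Irr(SL₂(F))`
-/

set_option autoImplicit false
set_option linter.unusedSectionVars false

namespace Cfsg.Agent.Lib.Helper39

open Cfsg Cfsg.Agent.Lib Cfsg.Agent.Lib.Helper15
open scoped ComplexConjugate MatrixGroups

variable {F : Type*} [Field F] [Fintype F] [DecidableEq F]

open Classical in
/-- the irreducible principal series of `SL₂` -/
noncomputable def setPS : Finset (SL2 F → ℂ) :=
  ((Finset.univ : Finset (MulChar F ℂ)).filter (fun α => α ^ 2 ≠ 1)).image psS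

open Classical in
/-- the constituents of the reducible principal series `psS α`, `α` of order two -/
noncomputable def setHS : Finset (SL2 F → ℂ) :=
  (irrSet (SL2 F)).filter (fun θ => ∃ α : MulChar F ℂ, α ^ 2 = 1 ∧ α ≠ 1 ∧ classInner θ (psS α) ≠ 0)

open Classical in
/-- the cuspidal characters of `SL₂` -/
noncomputable def setCS : Finset (SL2 F → ℂ) := (irrSet (SL2 F)).filter (fun θ => aS θ = 0)

theorem mem_setPS {θ : SL2 F → ℂ} : θ ∈ setPS ↔ ∃ α : MulChar F ℂ, α ^ 2 ≠ 1 ∧ θ = psS α := by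
  classical
  simp [setPS, eq_comm]

theorem mem_setHS {θ : SL2 F → ℂ} : θ ∈ setHS ↔ IsIrrCharacter (SL2 F) θ ∧
    ∃ α : MulChar F ℂ, α ^ 2 = 1 ∧ α ≠ 1 ∧ classInner θ (psS α) ≠ 0 := by
  classical
  simp [setHS, mem_irrSet]

theorem mem_setCS {θ : SL2 F → ℂ} : θ ∈ setCS ↔ IsIrrCharacter (SL2 F) θ ∧ aS θ = 0 := by
  classical
  simp [setCS, mem_irrSet]

open Classical in
theorem card_setPS : 2 * (setPS (F := F)).card
    = ((Finset.univ : Finset (MulChar F ℂ)).filter (fun α => α ^ 2 ≠ 1)).card := by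
  rw [Finset.card_eq_sum_card_image psS]
  rw [Finset.sum_const_nat (m := 2), mul_comm]
  · rfl
  · intro χ hχ
    obtain ⟨α, hp, rfl⟩ := Finset.mem_image.1 hχ
    have hne : α ^ 2 ≠ 1 := (Finset.mem_filter.1 hp).2
    have hne' : α ≠ α⁻¹ := fun h => hne ((eq_inv_iff_sq α).1 h)
    have : ((Finset.univ : Finset (MulChar F ℂ)).filter (fun α => α ^ 2 ≠ 1)).filter
        (fun p => psS p = psS α) = {α, α⁻¹} := by
      ext a
      simp only [Finset.mem_filter, Finset.mem_univ, true_and,
        Finset.mem_insert, Finset.mem_singleton, psS_eq_iff]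
      constructor
      · rintro ⟨-, h⟩
        exact h
      · rintro (rfl | rfl)
        · exact ⟨hne, Or.inl rfl⟩
        · refine ⟨?_, Or.inr rfl⟩
          rw [inv_pow]
          intro h
          exact hne (inv_eq_one.1 h)
    rw [this, Finset.card_pair hne']

theorem inner_one_psS (α : MulChar F ℂ) :
    classInner (fun _ : SL2 F => (1 : ℂ)) (psS α) = if α = 1 then 1 else 0 := by
  rw [inner_comm_of_char (irr_char one_irr_S) (psS_char α), inner_psS_one]

theorem inner_stS_psS {α : MulChar F ℂ} (hα : α ≠ 1) : classInner stS (psS α) = 0 := by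
  unfold stS
  rw [classInner_sub_left, inner_psS_psS, inner_one_psS, if_neg hα, if_neg (Ne.symm hα), if_neg]
  · simp
  · intro h
    apply hα
    rw [← inv_inv α, ← h, inv_one]

theorem stS_ne_one : stS (F := F) ≠ fun _ => 1 := by
  intro h
  have := congrFun h 1
  rw [stS_one] at this
  exact card_F_ne_one this

theorem sum_irr_SL2 (f : (SL2 F → ℂ) → ℂ) :
    ∑ θ ∈ irrSet (SL2 F), f θ
      = ∑ θ ∈ setCS, f θ + (f (fun _ => 1) + f stS + ∑ θ ∈ setPS, f θ + ∑ θ ∈ setHS, f θ) := by
  classical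
  rw [← Finset.sum_filter_add_sum_filter_not (irrSet (SL2 F)) (fun θ => aS θ = 0)]
  congr 1
  have h1 : (irrSet (SL2 F)).filter (fun θ => ¬ aS θ = 0)
      = (({(fun _ => 1), stS} : Finset (SL2 F → ℂ)) ∪ setPS) ∪ setHS := by
    ext θ
    simp only [Finset.mem_filter, mem_irrSet, Finset.mem_union, Finset.mem_insert,
      Finset.mem_singleton, mem_setPS, mem_setHS]
    constructor
    · rintro ⟨h1, h2⟩
      rcases irr_of_aS_ne_zero h1 h2 with h | h | h | h
      · exact Or.inl (Or.inl (Or.inl h))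
      · exact Or.inl (Or.inl (Or.inr h))
      · exact Or.inl (Or.inr h)
      · exact Or.inr ⟨h1, h⟩
    · rintro (((rfl | rfl) | ⟨α, hα, rfl⟩) | ⟨h1, α, -, -, h2⟩)
      · exact ⟨one_irr_S, by rw [aS_one]; norm_num⟩
      · exact ⟨stS_irr, by rw [aS_stS]; norm_num⟩
      · exact ⟨(psS_irr_iff α).2 hα, by rw [aS_psS]; norm_num⟩
      · exact ⟨h1, aS_ne_zero_of_inner (irr_char h1) α h2⟩
  rw [h1, Finset.sum_union, Finset.sum_union, Finset.sum_pair (Ne.symm stS_ne_one)]
  · rw [Finset.disjoint_left]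
    intro θ h1 h2
    obtain ⟨α, -, rfl⟩ := mem_setPS.1 h2
    have h3 := psS_one α
    rcases Finset.mem_insert.1 h1 with h | h
    · rw [h] at h3
      apply card_F_ne_zero (F := F)
      linear_combination -h3
    · rw [Finset.mem_singleton.1 h, stS_one] at h3
      have : (0 : ℂ) = 1 := by linear_combination h3
      exact zero_ne_one this
  · rw [Finset.disjoint_left]
    intro θ h1 h2
    obtain ⟨-, α, hα, hα1, hne⟩ := mem_setHS.1 h2
    rcases Finset.mem_union.1 h1 with h | h
    · rcases Finset.mem_insert.1 h with h | h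
      · rw [h, inner_one_psS, if_neg hα1] at hne
        exact hne rfl
      · rw [Finset.mem_singleton.1 h, inner_stS_psS hα1] at hne
        exact hne rfl
    · obtain ⟨β, hβ, rfl⟩ := mem_setPS.1 h
      rw [inner_psS_psS, if_neg, if_neg] at hne
      · simp at hne
      · rintro rfl
        apply hβ
        rw [inv_pow, hα, inv_one]
      · rintro rfl
        exact hβ hα

end Cfsg.Agent.Lib.Helper39
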