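import Cfsg.Agent.Lib.Helper39.GL2Char.SBorel

/-!
# Values of the principal series of `SL₂(F)`, Steinberg character, Fourier inversion,
  multiplicities on the unipotent radical
-/

set_option autoImplicit false
set_option linter.unusedSectionVars false

namespace Cfsg.Agent.Lib.Helper39

open Cfsg Cfsg.Agent.Lib Cfsg.Agent.Lib.Helper15
open scoped ComplexConjugate MatrixGroups

/-- every irreducible character of a subgroup (given by an injective hom) lies under an
irreducible character of the group. -/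
theorem exists_irr_over {H G : Type*} [Group H] [Group G] [Fintype H] [Fintype G] (ι : H →* G)
    (hι : Function.Injective ι) {θ : H → ℂ} (hθ : IsIrrCharacter H θ) :
    ∃ χ : G → ℂ, IsIrrCharacter G χ ∧ classInner (χ ∘ ι) θ ≠ 0 := by
  classical
  let e : H ≃* ι.range := MonoidHom.ofInjective hι
  have := Fintype.ofFinite ι.range
  have hθ' : IsIrrCharacter ι.range (θ ∘ e.symm) := irr_comp_equiv e.symm hθ
  obtain ⟨χ, hχ, hne⟩ := exists_constituent (char_indFun ι.range (irr_char hθ'))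
    (indFun_ne_zero_of_irr ι.range hθ')
  refine ⟨χ, hχ, ?_⟩
  rw [classInner_indFun_left _ _ _ (irr_cf hχ), ← classInner_comp_equiv e] at hne
  have h1 : (θ ∘ e.symm) ∘ e = θ := by
    funext x; simp
  have h2 : (fun h : ι.range => χ h) ∘ e = χ ∘ ι := by
    funext x; rfl
  rw [h1, h2] at hne
  rwa [inner_comm_of_char (Helper3.IsCharacter.comp_hom (irr_char hχ) ι) (irr_char hθ)]

variable {F : Type*} [Field F] [Fintype F] [DecidableEq F]

theorem psS_elliptic (α : MulChar F ℂ) (g : SL2 F)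
    (hg : Elliptic (g : Matrix (Fin 2) (Fin 2) F)) : psS α g = 0 := by
  rw [psS_eq_psG]
  exact psG_elliptic _ _ _ hg

theorem psS_split (α : MulChar F ℂ) (g : SL2 F)
    (h01 : (g : Matrix (Fin 2) (Fin 2) F) 0 1 = 0) (h10 : (g : Matrix (Fin 2) (Fin 2) F) 1 0 = 0)
    (hne : (g : Matrix (Fin 2) (Fin 2) F) 0 0 ≠ (g : Matrix (Fin 2) (Fin 2) F) 1 1) :
    psS α g = α ((g : Matrix (Fin 2) (Fin 2) F) 0 0) + α ((g : Matrix (Fin 2) (Fin 2) F) 1 1) := by
  obtain ⟨s, hs, hs', -⟩ := exists_eq_bS g h10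
  rw [psS_eq_psG, psG_split _ _ _ h01 h10 hne]
  change α ((g : Matrix (Fin 2) (Fin 2) F) 0 0) * (1 : MulChar F ℂ) ((g : Matrix (Fin 2) (Fin 2) F) 1 1)
    + α ((g : Matrix (Fin 2) (Fin 2) F) 1 1) * (1 : MulChar F ℂ) ((g : Matrix (Fin 2) (Fin 2) F) 0 0) = _
  rw [← hs, ← hs', one_apply_unit, one_apply_unit, mul_one, mul_one]

theorem psS_unip (α : MulChar F ℂ) (g : SL2 F)
    (h10 : (g : Matrix (Fin 2) (Fin 2) F) 1 0 = 0)
    (heq : (g : Matrix (Fin 2) (Fin 2) F) 0 0 = (g : Matrix (Fin 2) (Fin 2) F) 1 1)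
    (h01 : (g : Matrix (Fin 2) (Fin 2) F) 0 1 ≠ 0) :
    psS α g = α ((g : Matrix (Fin 2) (Fin 2) F) 0 0) := by
  obtain ⟨s, hs, hs', -⟩ := exists_eq_bS g h10
  rw [psS_eq_psG, psG_unip _ _ _ h10 heq h01]
  change α ((g : Matrix (Fin 2) (Fin 2) F) 0 0) * (1 : MulChar F ℂ) ((g : Matrix (Fin 2) (Fin 2) F) 0 0) = _
  rw [← hs, one_apply_unit, mul_one]

theorem psS_one (α : MulChar F ℂ) : psS α 1 = (Fintype.card F : ℂ) + 1 := by
  rw [psS_eq_psG, map_one, psG_one]

theorem muS_one : muS (1 : MulChar F ℂ) = fun _ => 1 := by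
  funext b
  obtain ⟨s, hs, -, -⟩ := exists_eq_bS (b : SL2 F) ((mem_BS_iff _).1 b.2)
  unfold muS
  rw [← hs, one_apply_unit]

theorem inner_muS_muS [Fintype (BS F)] (α α' : MulChar F ℂ) :
    classInner (muS α) (muS α') = if α = α' then 1 else 0 := by
  classical
  unfold classInner
  rw [sum_BS]
  simp_rw [muS_bBS]
  simp only [Finset.sum_const, Finset.card_univ, nsmul_eq_mul]
  rw [← Finset.mul_sum, sum_units_eq (fun s => α s * conj (α' s)) (by simp [MulChar.map_zero]),
    mc_sum_mul_conj, card_BS]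
  have hq := card_F_ne_zero (F := F)
  have hq1 := card_sub_one_ne_zero (F := F)
  by_cases h1 : α = α' <;> simp [h1]
  field_simp

theorem one_irr_S : IsIrrCharacter (SL2 F) (fun _ => (1 : ℂ)) := Helper3.isIrrCharacter_one

theorem inner_psS_one (α : MulChar F ℂ) :
    classInner (psS α) (fun _ => (1 : ℂ)) = if α = 1 then 1 else 0 := by
  have := Fintype.ofFinite (BS F)
  unfold psS
  rw [classInner_indFun_left _ _ _ (irr_cf one_irr_S), ← muS_one, inner_muS_muS]

/-- the Steinberg character of `SL₂(F)`. -/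
noncomputable def stS : SL2 F → ℂ := psS (1 : MulChar F ℂ) - fun _ => 1

theorem stS_irr : IsIrrCharacter (SL2 F) (stS (F := F)) := by
  rw [isIrr_iff]
  constructor
  · apply char_sub_irr (psS_char 1) one_irr_S
    rw [inner_psS_one]; simp
  · unfold stS
    rw [classInner_sub_left, classInner_sub_right, classInner_sub_right, inner_psS_psS,
      inner_psS_one, irr_inner_self one_irr_S,
      inner_comm_of_char (irr_char one_irr_S) (psS_char 1), inner_psS_one]
    simp

theorem psS_one_eq : psS (1 : MulChar F ℂ) = (fun _ => (1 : ℂ)) + stS := by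
  unfold stS; abel

theorem stS_one : stS (F := F) 1 = (Fintype.card F : ℂ) := by
  unfold stS
  rw [Pi.sub_apply, psS_one]
  ring

/-- **Fourier inversion on `B/U`** for `SL₂`. -/
theorem fourier_BS (χ : SL2 F → ℂ) (hχ : IsClassFunction (SL2 F) χ) (s₀ : Fˣ) :
    ∑ α : MulChar F ℂ, α s₀ * classInner χ (psS α)
      = (Fintype.card F : ℂ)⁻¹ * ∑ x : F, χ (bS s₀ x) := by
  classical
  have := Fintype.ofFinite (BS F)
  unfold psS
  simp_rw [classInner_indFun_right _ _ _ hχ]
  unfold classInner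
  simp_rw [sum_BS, muS_bBS]
  have h1 : ∀ α : MulChar F ℂ, α s₀ * ((Nat.card (BS F) : ℂ)⁻¹ *
      ∑ s : Fˣ, ∑ x : F, χ (bBS (s, x) : SL2 F) * conj (α s))
      = (Nat.card (BS F) : ℂ)⁻¹ * ∑ s : Fˣ, (α s₀ * conj (α s)) * ∑ x : F, χ (bS s x) := by
    intro α
    rw [mul_left_comm, Finset.mul_sum]
    congr 1
    apply Finset.sum_congr rfl
    intro s _
    rw [Finset.mul_sum, Finset.mul_sum]
    apply Finset.sum_congr rfl
    intro x _
    change _ * (χ (bS s x) * _) = _
    ring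
  simp_rw [h1]
  have h2 : ∀ (s₁ s : Fˣ), ∑ α : MulChar F ℂ, α s₁ * conj (α s)
      = if s = s₁ then (Fintype.card F : ℂ) - 1 else 0 := by
    intro s₁ s
    have : ∀ α : MulChar F ℂ, α s₁ * conj (α s) = α ((s₁ * s⁻¹ : Fˣ) : F) := by
      intro α
      rw [mc_conj, MulChar.inv_apply', Units.val_mul, map_mul, Units.val_inv_eq_inv_val]
    simp_rw [this]
    rw [mc_sum_chars]
    congr 1
    rw [Units.val_eq_one, mul_inv_eq_one]
    exact propext eq_comm
  rw [← Finset.mul_sum, Finset.sum_comm]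
  simp_rw [← Finset.sum_mul, h2]
  rw [Finset.sum_eq_single s₀]
  · rw [if_pos rfl, card_BS]
    have hq := card_F_ne_zero (F := F)
    have hq1 := card_sub_one_ne_zero (F := F)
    field_simp
  · intro s _ hs
    rw [if_neg hs]; simp
  · intro h
    exact absurd (Finset.mem_univ _) h

theorem bS_mul (s s' : Fˣ) (x x' : F) :
    bS s x * bS s' x' = bS (s * s') (s * x' + x * ((s'⁻¹ : Fˣ) : F)) := by
  apply Subtype.ext
  rw [Matrix.SpecialLinearGroup.coe_mul, bS_coe, bS_coe, bS_coe]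
  ext i j
  fin_cases i <;> fin_cases j <;> simp [Matrix.mul_apply, Fin.sum_univ_two, mul_comm]

theorem bS_one : bS (1 : Fˣ) (0 : F) = 1 := by
  apply Subtype.ext
  rw [bS_coe]
  ext i j
  fin_cases i <;> fin_cases j <;> simp

theorem bS_inv (s : Fˣ) (x : F) : (bS s x)⁻¹ = bS s⁻¹ (-x) := by
  apply inv_eq_of_mul_eq_one_right
  rw [bS_mul, ← bS_one]
  congr 1
  · simp
  · simp; ring

/-- the unipotent radical as a homomorphism. -/
def uS : Multiplicative F →* SL2 F where
  toFun x := bS 1 (Multiplicative.toAdd x)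
  map_one' := by simpa using bS_one
  map_mul' := by
    intro a b
    rw [bS_mul]
    simp [add_comm]

theorem uS_apply (x : F) : uS (Multiplicative.ofAdd x) = bS 1 x := rfl

theorem toGL_bS (s : Fˣ) (x : F) : Matrix.SpecialLinearGroup.toGL (bS s x) = bG s s⁻¹ x := by
  apply Units.ext
  rfl

theorem cf_bS_conj {χ : SL2 F → ℂ} (hχ : IsClassFunction (SL2 F) χ) (s a : Fˣ) (x y : F) :
    χ (bS s ((a : F) ^ 2 * x + a * y * (((s⁻¹ : Fˣ) : F) - s))) = χ (bS s x) := by
  rw [← hχ (bS s x) (bS a y)]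
  congr 1
  rw [bS_inv, bS_mul, bS_mul]
  congr 1
  · rw [mul_comm a s, mul_assoc, mul_inv_cancel, mul_one]
  · simp only [Units.val_mul, inv_inv]
    ring

theorem cf_bS_sq {χ : SL2 F → ℂ} (hχ : IsClassFunction (SL2 F) χ) (s a : Fˣ) (x : F) :
    χ (bS s ((a : F) ^ 2 * x)) = χ (bS s x) := by
  have := cf_bS_conj hχ s a x 0
  simpa using this

theorem cf_bS_split {χ : SL2 F → ℂ} (hχ : IsClassFunction (SL2 F) χ) {s : Fˣ}
    (hs : (s : F) ^ 2 ≠ 1) (x : F) : χ (bS s x) = χ (bS s 0) := by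
  have hne : ((s⁻¹ : Fˣ) : F) - s ≠ 0 := by
    intro h
    apply hs
    have h1 : ((s⁻¹ : Fˣ) : F) = s := sub_eq_zero.1 h
    rw [pow_two]
    nth_rewrite 1 [← h1]
    simp
  have := cf_bS_conj hχ s 1 0 (x / (((s⁻¹ : Fˣ) : F) - s))
  rw [← this]
  congr 1
  simp only [Units.val_one, one_pow, mul_zero, zero_add, one_mul]
  field_simp

/-- the multiplicity of the trivial character of `U`. -/
noncomputable def aS (χ : SL2 F → ℂ) : ℂ := (Fintype.card F : ℂ)⁻¹ * ∑ x : F, χ (bS 1 x)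

theorem aS_eq_sum {χ : SL2 F → ℂ} (hχ : IsClassFunction (SL2 F) χ) :
    aS χ = ∑ α : MulChar F ℂ, classInner χ (psS α) := by
  have := fourier_BS χ hχ 1
  simp only [Units.val_one, map_one, one_mul] at this
  rw [this, aS]

theorem aS_eq_addMult (χ : SL2 F → ℂ) : aS χ = addMult (fun x => χ (bS 1 x)) 1 := by
  unfold aS addMult
  simp

/-- the multiplicities of nontrivial characters of `U` in irreducible characters of `GL₂(q)`
are at most one. -/
theorem mult_le_one_GL2 {χ : GL (Fin 2) F → ℂ} (hχ : IsIrrCharacter (GL (Fin 2) F) χ)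
    {ψ : AddChar F ℂ} (hψ : ψ ≠ 1) :
    addMult (fun x => χ (bG 1 1 x)) ψ = 0 ∨ addMult (fun x => χ (bG 1 1 x)) ψ = 1 := by
  rw [addMult_of_const (f := fun x : F => χ (bG 1 1 x)) (c := χ (bG 1 1 1))
    (fun x hx => cf_unip (irr_cf hχ) 1 hx) hψ, bG_one]
  have hq := card_F_ne_zero (F := F)
  rcases irr_GL2_cases hχ with ⟨α, rfl⟩ | ⟨α, rfl⟩ | ⟨α, β, -, rfl⟩ | ⟨-, h2, h3⟩
  · left
    rw [detChar_one, detChar_u]; simp
  · right
    rw [detSt_one, Pi.mul_apply, stG_u]
    field_simp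
    ring
  · right
    rw [psG_one, psG_u]
    field_simp
    ring
  · right
    rw [h2, h3]
    field_simp
    ring

/-- the multiplicities of nontrivial characters of `U` in irreducible characters of `SL₂(q)`
are at most one. -/
theorem mult_le_one_SL2 {θ : SL2 F → ℂ} (hθ : IsIrrCharacter (SL2 F) θ)
    {ψ : AddChar F ℂ} (hψ : ψ ≠ 1) :
    addMult (fun x => θ (bS 1 x)) ψ = 0 ∨ addMult (fun x => θ (bS 1 x)) ψ = 1 := by
  obtain ⟨χ, hχ, hne⟩ := exists_irr_over (Matrix.SpecialLinearGroup.toGL (n := Fin 2) (R := F))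
    Matrix.SpecialLinearGroup.toGL_injective hθ
  have hres : IsCharacter (SL2 F) (χ ∘ Matrix.SpecialLinearGroup.toGL) :=
    Helper3.IsCharacter.comp_hom (irr_char hχ) _
  have hsub := char_sub_irr hres hθ hne
  obtain ⟨n, hn⟩ := addMult_nat uS (irr_char hθ) ψ
  obtain ⟨m, hm⟩ := addMult_nat uS hsub ψ
  simp only [uS_apply] at hn hm
  have hadd : addMult (fun x => χ (bG 1 1 x)) ψ = n + m := by
    rw [← hn, ← hm, ← addMult_add]
    congr 1
    funext x
    simp only [Pi.add_apply, Pi.sub_apply, Function.comp, toGL_bS, inv_one]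
    ring
  rw [hn]
  rcases mult_le_one_GL2 hχ hψ with h | h
  · rw [h] at hadd
    left
    have : n + m = 0 := by exact_mod_cast hadd.symm
    have : n = 0 := by omega
    rw [this]; simp
  · rw [h] at hadd
    have : n + m = 1 := by exact_mod_cast hadd.symm
    rcases Nat.eq_zero_or_pos n with h0 | h0
    · left; rw [h0]; simp
    · right
      have : n = 1 := by omega
      rw [this]; simp

end Cfsg.Agent.Lib.Helper39
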