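import Cfsg.Agent.Lib.Helper15.CharTools

/-!
# Induced functions through a transversal
-/

set_option autoImplicit false

namespace Cfsg.Agent.Lib.Helper39

open Cfsg Cfsg.Agent.Lib Cfsg.Agent.Lib.Helper15

theorem extendByZero_conj_mem {G : Type*} [Group G] (H : Subgroup G) (θ : H → ℂ)
    (hθ : IsClassFunction H θ) (h : H) (y : G) :
    extendByZero H θ ((h : G)⁻¹ * y * h) = extendByZero H θ y := by
  by_cases hy : y ∈ H
  · have h1 : (h : G)⁻¹ * y * h = ((h⁻¹ * ⟨y, hy⟩ * h⁻¹⁻¹ : H) : G) := by simp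
    rw [h1, extendByZero_coe, hθ, extendByZero_mem H θ hy]
  · have h1 : (h : G)⁻¹ * y * h ∉ H := by
      intro hc
      apply hy
      have := H.mul_mem (H.mul_mem h.2 hc) (H.inv_mem h.2)
      simpa [mul_assoc] using this
    rw [extendByZero_not_mem H θ hy, extendByZero_not_mem H θ h1]

/-- The induced function computed along a left transversal. -/
theorem indFun_eq_sum_transversal {G : Type*} [Group G] [Fintype G] (H : Subgroup G) (θ : H → ℂ)
    (hθ : IsClassFunction H θ) {ι : Type*} [Fintype ι] (r : ι → G)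
    (hr : Function.Bijective (fun p : ι × H => r p.1 * (p.2 : G))) (g : G) :
    indFun H θ g = ∑ i, extendByZero H θ ((r i)⁻¹ * g * r i) := by
  classical
  have := Fintype.ofFinite H
  rw [indFun_apply]
  rw [← Function.Bijective.sum_comp hr (fun x => extendByZero H θ (x⁻¹ * g * x))]
  rw [Fintype.sum_prod_type]
  have h1 : ∀ (i : ι) (h : H), extendByZero H θ ((r i * (h : G))⁻¹ * g * (r i * (h : G)))
      = extendByZero H θ ((r i)⁻¹ * g * r i) := by
    intro i h
    rw [← extendByZero_conj_mem H θ hθ h ((r i)⁻¹ * g * r i)]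
    congr 1
    simp only [mul_inv_rev, mul_assoc]
  simp_rw [h1]
  simp only [Finset.sum_const, Finset.card_univ, nsmul_eq_mul]
  rw [← Finset.mul_sum, ← mul_assoc, ← Nat.card_eq_fintype_card,
    inv_mul_cancel₀ (card_ne_zero H), one_mul]

end Cfsg.Agent.Lib.Helper39
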