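import Cfsg.Agent.Lib.Helper39.GL2Char.Values

/-!
# Restriction of characters to the unipotent radical
-/

set_option autoImplicit false
set_option linter.unusedSectionVars false

namespace Cfsg.Agent.Lib.Helper39

open Cfsg Cfsg.Agent.Lib Cfsg.Agent.Lib.Helper15
open scoped ComplexConjugate MatrixGroups

variable {F : Type*} [Field F] [Fintype F] [DecidableEq F]

/-- multiplicity of the additive character `ψ` in a function on `F`. -/
noncomputable def addMult (f : F → ℂ) (ψ : AddChar F ℂ) : ℂ :=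
  (Fintype.card F : ℂ)⁻¹ * ∑ x : F, f x * conj (ψ x)

theorem addChar_irr (ψ : AddChar F ℂ) :
    IsIrrCharacter (Multiplicative F) (fun x => ψ (Multiplicative.toAdd x)) :=
  Helper3.isIrrCharacter_of_hom (ψ.toMonoidHom).toHomUnits

theorem addMult_eq_inner (f : F → ℂ) (ψ : AddChar F ℂ) :
    addMult f ψ = classInner (fun x : Multiplicative F => f (Multiplicative.toAdd x))
      (fun x => ψ (Multiplicative.toAdd x)) := by
  unfold addMult classInner
  congr 1
  · rw [Nat.card_eq_fintype_card, Fintype.card_multiplicative]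
  · exact (Fintype.sum_equiv Multiplicative.toAdd _ _ (fun x => rfl)).symm

theorem addMult_nat {H : Type*} [Group H] (u : Multiplicative F →* H) {χ : H → ℂ}
    (hχ : IsCharacter H χ) (ψ : AddChar F ℂ) :
    ∃ n : ℕ, addMult (fun x => χ (u (Multiplicative.ofAdd x))) ψ = n := by
  rw [addMult_eq_inner]
  exact inner_nat (Helper3.IsCharacter.comp_hom hχ u) (irr_char (addChar_irr ψ))

theorem addMult_add (f g : F → ℂ) (ψ : AddChar F ℂ) :
    addMult (f + g) ψ = addMult f ψ + addMult g ψ := by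
  unfold addMult
  simp only [Pi.add_apply, add_mul, Finset.sum_add_distrib, mul_add]

theorem exists_addChar_ne_one : ∃ ψ : AddChar F ℂ, ψ.IsPrimitive :=
  ⟨AddChar.FiniteField.primitiveChar_to_Complex F,
    AddChar.FiniteField.primitiveChar_to_Complex_isPrimitive F⟩

theorem IsPrimitive_ne_one {ψ : AddChar F ℂ} (hψ : ψ.IsPrimitive) : ψ ≠ 1 := by
  have := hψ (one_ne_zero (α := F))
  rwa [AddChar.mulShift_one] at this

theorem sum_addChar_conj {ψ : AddChar F ℂ} (hψ : ψ ≠ 1) : ∑ x : F, conj (ψ x) = 0 := by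
  rw [← map_sum, AddChar.sum_eq_zero_of_ne_one hψ, map_zero]

/-- a function on `F` which is constant off `0`. -/
theorem addMult_of_const {f : F → ℂ} {c : ℂ} (hf : ∀ x, x ≠ 0 → f x = c) {ψ : AddChar F ℂ}
    (hψ : ψ ≠ 1) : addMult f ψ = (f 0 - c) / (Fintype.card F : ℂ) := by
  unfold addMult
  have h1 : ∀ x : F, f x * conj (ψ x) = c * conj (ψ x) + if x = 0 then f 0 - c else 0 := by
    intro x
    split_ifs with h
    · subst h
      simp
    · rw [hf x h, add_zero]
  simp_rw [h1]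
  rw [Finset.sum_add_distrib, ← Finset.mul_sum, sum_addChar_conj hψ]
  simp
  ring

theorem addMult_one_of_const {f : F → ℂ} {c : ℂ} (hf : ∀ x, x ≠ 0 → f x = c) :
    addMult f 1 = (f 0 + ((Fintype.card F : ℂ) - 1) * c) / (Fintype.card F : ℂ) := by
  unfold addMult
  have h1 : ∀ x : F, f x * conj ((1 : AddChar F ℂ) x) = c + if x = 0 then f 0 - c else 0 := by
    intro x
    split_ifs with h
    · subst h
      simp
    · rw [hf x h, add_zero]; simp
  simp_rw [h1]
  rw [Finset.sum_add_distrib]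
  simp
  ring

section GLsec

theorem bG_mul (s t s' t' : Fˣ) (x x' : F) :
    bG s t x * bG s' t' x' = bG (s * s') (t * t') (s * x' + x * t') := by
  apply Units.ext
  rw [Units.val_mul, bG_coe, bG_coe, bG_coe]
  ext i j
  fin_cases i <;> fin_cases j <;> simp [Matrix.mul_apply, Fin.sum_univ_two]

theorem bG_one : bG (1 : Fˣ) 1 (0 : F) = 1 := by
  apply Units.ext
  rw [bG_coe]
  ext i j
  fin_cases i <;> fin_cases j <;> simp

theorem bG_inv (s t : Fˣ) (x : F) : (bG s t x)⁻¹ = bG s⁻¹ t⁻¹ (-(s⁻¹ * x * t⁻¹ : F)) := by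
  apply inv_eq_of_mul_eq_one_right
  rw [bG_mul, ← bG_one]
  congr 1
  · simp
  · simp
  · simp only [Units.val_inv_eq_inv_val]
    field_simp
    ring

/-- the unipotent radical as a homomorphism. -/
noncomputable def uG : Multiplicative F →* GL (Fin 2) F where
  toFun x := bG 1 1 (Multiplicative.toAdd x)
  map_one' := by simpa using bG_one
  map_mul' := by
    intro a b
    rw [bG_mul]
    simp [add_comm]

theorem uG_apply (x : F) : uG (Multiplicative.ofAdd x) = bG 1 1 x := rfl

theorem cf_bG_conj {χ : GL (Fin 2) F → ℂ} (hχ : IsClassFunction (GL (Fin 2) F) χ) (s t a b : Fˣ)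
    (x y : F) : χ (bG s t ((a * x * b⁻¹ : F) + (y * t - s * y) * b⁻¹)) = χ (bG s t x) := by
  rw [← hχ (bG s t x) (bG a b y)]
  congr 1
  rw [bG_inv, bG_mul, bG_mul]
  congr 1
  · rw [mul_comm a s, mul_assoc, mul_inv_cancel, mul_one]
  · rw [mul_comm b t, mul_assoc, mul_inv_cancel, mul_one]
  · simp only [Units.val_mul, Units.val_inv_eq_inv_val]
    field_simp
    ring

theorem cf_unip {χ : GL (Fin 2) F → ℂ} (hχ : IsClassFunction (GL (Fin 2) F) χ) (s : Fˣ) {x : F}
    (hx : x ≠ 0) : χ (bG s s x) = χ (bG s s 1) := by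
  have := cf_bG_conj hχ s s (Units.mk0 x hx) 1 1 0
  simpa using this

theorem cf_split {χ : GL (Fin 2) F → ℂ} (hχ : IsClassFunction (GL (Fin 2) F) χ) {s t : Fˣ}
    (hst : s ≠ t) (x : F) : χ (bG s t x) = χ (bG s t 0) := by
  have hne : (t : F) - s ≠ 0 := by
    intro h
    apply hst
    exact (Units.ext (sub_eq_zero.1 h)).symm
  have := cf_bG_conj hχ s t 1 1 0 (x / (t - s))
  rw [← this]
  congr 1
  simp
  field_simp

/-- the multiplicity of the trivial character of `U`. -/
noncomputable def aG (χ : GL (Fin 2) F → ℂ) : ℂ :=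
  (Fintype.card F : ℂ)⁻¹ * ∑ x : F, χ (bG 1 1 x)

theorem aG_eq_sum {χ : GL (Fin 2) F → ℂ} (hχ : IsClassFunction (GL (Fin 2) F) χ) :
    aG χ = ∑ α : MulChar F ℂ, ∑ β : MulChar F ℂ, classInner χ (psG α β) := by
  have := fourier_BG χ hχ 1 1
  simp only [Units.val_one, map_one, one_mul] at this
  rw [this, aG]

theorem aG_eq {χ : GL (Fin 2) F → ℂ} (hχ : IsClassFunction (GL (Fin 2) F) χ) :
    aG χ = (χ 1 + ((Fintype.card F : ℂ) - 1) * χ (bG 1 1 1)) / (Fintype.card F : ℂ) := by
  have := addMult_one_of_const (f := fun x : F => χ (bG 1 1 x)) (c := χ (bG 1 1 1))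
    (fun x hx => cf_unip hχ 1 hx)
  rw [bG_one] at this
  rw [← this, aG, addMult]
  simp

/-- the multiplicity of a nontrivial character of `U`. -/
theorem exists_bG {χ : GL (Fin 2) F → ℂ} (hχ : IsCharacter (GL (Fin 2) F) χ) :
    ∃ n : ℕ, (χ 1 - χ (bG 1 1 1)) / (Fintype.card F : ℂ) = n := by
  obtain ⟨ψ, hψ⟩ := exists_addChar_ne_one (F := F)
  obtain ⟨n, hn⟩ := addMult_nat uG hχ ψ
  refine ⟨n, ?_⟩
  rw [← hn]
  have := addMult_of_const (f := fun x : F => χ (bG 1 1 x)) (c := χ (bG 1 1 1))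
    (fun x hx => cf_unip (char_cf hχ) 1 hx) (IsPrimitive_ne_one hψ)
  rw [bG_one] at this
  rw [← this]
  rfl

end GLsec

end Cfsg.Agent.Lib.Helper39
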