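import Cfsg.Agent.Lib.Helper39.GL2Char.Borel
import Cfsg.Agent.Lib.Helper15.LinearMul
import Cfsg.Agent.Lib.Helper15.Iso
import Cfsg.Agent.Lib.Helper15.Clifford2

/-!
# Values of the principal series of `GL₂(F)`, the Steinberg character, Fourier inversion on `B/U`
-/

set_option autoImplicit false
set_option linter.unusedSectionVars false

namespace Cfsg.Agent.Lib.Helper39

open Cfsg Cfsg.Agent.Lib Cfsg.Agent.Lib.Helper15
open scoped ComplexConjugate MatrixGroups

variable {F : Type*} [Field F] [Fintype F] [DecidableEq F]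

/-- no eigenvector -/
def Elliptic (M : Matrix (Fin 2) (Fin 2) F) : Prop :=
  ∀ (c : F) (v : Fin 2 → F), v ≠ 0 → M.mulVec v ≠ c • v

theorem psG_elliptic (α β : MulChar F ℂ) (g : GL (Fin 2) F)
    (hg : Elliptic (g : Matrix (Fin 2) (Fin 2) F)) : psG α β g = 0 := by
  rw [psG_apply]
  have h1 : (g : Matrix (Fin 2) (Fin 2) F) 1 0 ≠ 0 := by
    intro h
    apply hg ((g : Matrix (Fin 2) (Fin 2) F) 0 0) ![1, 0] (by simp)
    ext i
    fin_cases i <;> simp [Matrix.mulVec, dotProduct, Fin.sum_univ_two, h]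
  rw [if_neg h1, zero_add]
  apply Finset.sum_eq_zero
  intro c _
  rw [if_neg]
  intro h
  apply hg ((g : Matrix (Fin 2) (Fin 2) F) 1 0 * c + (g : Matrix (Fin 2) (Fin 2) F) 1 1) ![c, 1]
    (by intro h0; simpa using congrFun h0 1)
  ext i
  fin_cases i
  · simp [Matrix.mulVec, dotProduct, Fin.sum_univ_two]
    rw [h]; ring
  · simp [Matrix.mulVec, dotProduct, Fin.sum_univ_two]

theorem psG_split (α β : MulChar F ℂ) (g : GL (Fin 2) F)
    (h01 : (g : Matrix (Fin 2) (Fin 2) F) 0 1 = 0) (h10 : (g : Matrix (Fin 2) (Fin 2) F) 1 0 = 0)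
    (hne : (g : Matrix (Fin 2) (Fin 2) F) 0 0 ≠ (g : Matrix (Fin 2) (Fin 2) F) 1 1) :
    psG α β g = α ((g : Matrix (Fin 2) (Fin 2) F) 0 0) * β ((g : Matrix (Fin 2) (Fin 2) F) 1 1)
      + α ((g : Matrix (Fin 2) (Fin 2) F) 1 1) * β ((g : Matrix (Fin 2) (Fin 2) F) 0 0) := by
  rw [psG_apply, if_pos h10, h01, h10]
  congr 1
  rw [Finset.sum_eq_single 0]
  · simp
  · intro c _ hc
    rw [if_neg]
    intro h
    apply hne
    simp only [add_zero, zero_mul, zero_add] at h
    rw [mul_comm] at h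
    exact mul_left_cancel₀ hc h
  · intro h
    exact absurd (Finset.mem_univ _) h

theorem psG_unip (α β : MulChar F ℂ) (g : GL (Fin 2) F)
    (h10 : (g : Matrix (Fin 2) (Fin 2) F) 1 0 = 0)
    (heq : (g : Matrix (Fin 2) (Fin 2) F) 0 0 = (g : Matrix (Fin 2) (Fin 2) F) 1 1)
    (h01 : (g : Matrix (Fin 2) (Fin 2) F) 0 1 ≠ 0) :
    psG α β g = α ((g : Matrix (Fin 2) (Fin 2) F) 0 0) * β ((g : Matrix (Fin 2) (Fin 2) F) 0 0) := by
  rw [psG_apply, if_pos h10, h10, ← heq]
  rw [Finset.sum_eq_zero, add_zero]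
  intro c _
  rw [if_neg]
  intro h
  apply h01
  simp only [zero_mul, zero_add] at h
  linear_combination h

theorem psG_scalar (α β : MulChar F ℂ) (g : GL (Fin 2) F)
    (h10 : (g : Matrix (Fin 2) (Fin 2) F) 1 0 = 0)
    (heq : (g : Matrix (Fin 2) (Fin 2) F) 0 0 = (g : Matrix (Fin 2) (Fin 2) F) 1 1)
    (h01 : (g : Matrix (Fin 2) (Fin 2) F) 0 1 = 0) :
    psG α β g = ((Fintype.card F : ℂ) + 1) *
      (α ((g : Matrix (Fin 2) (Fin 2) F) 0 0) * β ((g : Matrix (Fin 2) (Fin 2) F) 0 0)) := by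
  rw [psG_apply, if_pos h10, h10, ← heq, h01]
  have : ∀ c : F, (if (g : Matrix (Fin 2) (Fin 2) F) 0 0 * c + 0
      = c * (0 * c + (g : Matrix (Fin 2) (Fin 2) F) 0 0) then
        α (0 * c + (g : Matrix (Fin 2) (Fin 2) F) 0 0) * β ((g : Matrix (Fin 2) (Fin 2) F) 0 0 - c * 0)
      else 0) = α ((g : Matrix (Fin 2) (Fin 2) F) 0 0) * β ((g : Matrix (Fin 2) (Fin 2) F) 0 0) := by
    intro c
    rw [if_pos (by ring)]
    simp
  simp_rw [this]
  simp only [Finset.sum_const, Finset.card_univ, nsmul_eq_mul]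
  ring

theorem psG_one (α β : MulChar F ℂ) : psG α β 1 = (Fintype.card F : ℂ) + 1 := by
  rw [psG_scalar α β 1 (by simp) (by simp) (by simp)]
  simp

/-- the linear character `α ∘ det`. -/
noncomputable def detChar (α : MulChar F ℂ) : GL (Fin 2) F → ℂ :=
  fun g => α (g : Matrix (Fin 2) (Fin 2) F).det

noncomputable def detCharHom (α : MulChar F ℂ) : GL (Fin 2) F →* ℂ where
  toFun := detChar α
  map_one' := by simp [detChar]
  map_mul' := by
    intro a b
    simp [detChar, Matrix.det_mul]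

theorem detChar_irr (α : MulChar F ℂ) : IsIrrCharacter (GL (Fin 2) F) (detChar α) :=
  Helper3.isIrrCharacter_of_hom (detCharHom α).toHomUnits

theorem detChar_one (α : MulChar F ℂ) : detChar α 1 = 1 := by simp [detChar]

theorem detChar_restrict (α : MulChar F ℂ) :
    (fun b : upperTriangularGL 2 F => detChar α b) = muG α α := by
  funext b
  have hb := (mem_BG_iff _).1 b.2
  simp only [detChar, muG, Matrix.det_fin_two, hb, mul_zero, sub_zero, map_mul]

theorem muG_mul (α β γ δ : MulChar F ℂ) : muG α β * muG γ δ = muG (α * γ) (β * δ) := by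
  funext b
  simp only [Pi.mul_apply, muG, MulChar.mul_apply]
  ring

theorem psG_mul_detChar (α β γ : MulChar F ℂ) :
    psG α β * detChar γ = psG (α * γ) (β * γ) := by
  unfold psG
  rw [← indFun_mul_restrict _ _ (irr_cf (detChar_irr γ)), detChar_restrict, muG_mul]

theorem inner_muG_muG [Fintype (upperTriangularGL 2 F)] (α β α' β' : MulChar F ℂ) :
    classInner (muG α β) (muG α' β') = if α = α' ∧ β = β' then 1 else 0 := by
  classical
  unfold classInner
  rw [sum_BG]
  simp_rw [muG_bB]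
  simp only [Finset.sum_const, Finset.card_univ, nsmul_eq_mul, map_mul]
  have h1 : ∀ s t : Fˣ, (Fintype.card F : ℂ) * (α s * β t * (conj (α' s) * conj (β' t)))
      = (Fintype.card F : ℂ) * ((α s * conj (α' s)) * (β t * conj (β' t))) := by
    intro s t; ring
  simp_rw [h1, ← Finset.mul_sum, ← Finset.sum_mul]
  rw [sum_units_eq (fun s => α s * conj (α' s)) (by simp [MulChar.map_zero]),
    sum_units_eq (fun s => β s * conj (β' s)) (by simp [MulChar.map_zero]),
    mc_sum_mul_conj, mc_sum_mul_conj, card_BG]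
  have hq := card_F_ne_zero (F := F)
  have hq1 := card_sub_one_ne_zero (F := F)
  by_cases h1 : α = α' <;> by_cases h2 : β = β' <;> simp [h1, h2] <;> field_simp

theorem inner_psG_detChar (α β γ : MulChar F ℂ) :
    classInner (psG α β) (detChar γ) = if α = γ ∧ β = γ then 1 else 0 := by
  have := Fintype.ofFinite (upperTriangularGL 2 F)
  unfold psG
  rw [classInner_indFun_left _ _ _ (irr_cf (detChar_irr γ)), detChar_restrict, inner_muG_muG]

/-- the Steinberg character of `GL₂(F)`. -/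
noncomputable def stG : GL (Fin 2) F → ℂ := psG (1 : MulChar F ℂ) 1 - detChar 1

theorem stG_irr : IsIrrCharacter (GL (Fin 2) F) (stG (F := F)) := by
  rw [isIrr_iff]
  constructor
  · apply char_sub_irr (psG_char 1 1) (detChar_irr 1)
    rw [inner_psG_detChar]; simp
  · unfold stG
    rw [classInner_sub_left, classInner_sub_right, classInner_sub_right, inner_psG_psG,
      inner_psG_detChar, irr_inner_self (detChar_irr 1),
      inner_comm_of_char (irr_char (detChar_irr 1)) (psG_char 1 1), inner_psG_detChar]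
    simp

theorem psG_diag (α : MulChar F ℂ) : psG α α = detChar α + detChar α * stG := by
  have h := psG_mul_detChar (1 : MulChar F ℂ) 1 α
  rw [one_mul] at h
  rw [← h]
  unfold stG
  have : detChar (1 : MulChar F ℂ) * detChar α = detChar α := by
    funext g
    simp only [Pi.mul_apply, detChar]
    rw [MulChar.one_apply, one_mul]
    exact (Matrix.GeneralLinearGroup.det g).isUnit
  rw [mul_sub, mul_comm (detChar α) (detChar 1), this, mul_comm]
  abel

theorem detSt_irr (α : MulChar F ℂ) : IsIrrCharacter (GL (Fin 2) F) (detChar α * stG) :=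
  irr_linear_mul (irr_char (detChar_irr α)) (detChar_one α) stG_irr

theorem stG_one : stG (F := F) 1 = (Fintype.card F : ℂ) := by
  unfold stG
  rw [Pi.sub_apply, psG_one, detChar_one]
  ring

theorem sum4_comm {ι κ σ τ : Type*} [Fintype ι] [Fintype κ] [Fintype σ] [Fintype τ]
    (A : ι → σ → ℂ) (B : κ → τ → ℂ) (X : σ → τ → ℂ) :
    ∑ i, ∑ k, ∑ s, ∑ t, A i s * (B k t * X s t)
      = ∑ s, ∑ t, (∑ i, A i s) * ((∑ k, B k t) * X s t) := by
  simp_rw [Finset.sum_mul, Finset.mul_sum]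
  calc ∑ i, ∑ k, ∑ s, ∑ t, A i s * (B k t * X s t)
      = ∑ i, ∑ s, ∑ k, ∑ t, A i s * (B k t * X s t) :=
        Finset.sum_congr rfl (fun i _ => Finset.sum_comm)
    _ = ∑ s, ∑ i, ∑ k, ∑ t, A i s * (B k t * X s t) := Finset.sum_comm
    _ = ∑ s, ∑ i, ∑ t, ∑ k, A i s * (B k t * X s t) :=
        Finset.sum_congr rfl (fun s _ => Finset.sum_congr rfl (fun i _ => Finset.sum_comm))
    _ = ∑ s, ∑ t, ∑ i, ∑ k, A i s * (B k t * X s t) :=
        Finset.sum_congr rfl (fun s _ => Finset.sum_comm)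

/-- **Fourier inversion on `B/U`**. -/
theorem fourier_BG (χ : GL (Fin 2) F → ℂ) (hχ : IsClassFunction (GL (Fin 2) F) χ) (s₀ t₀ : Fˣ) :
    ∑ α : MulChar F ℂ, ∑ β : MulChar F ℂ, α s₀ * β t₀ * classInner χ (psG α β)
      = (Fintype.card F : ℂ)⁻¹ * ∑ x : F, χ (bG s₀ t₀ x) := by
  classical
  have := Fintype.ofFinite (upperTriangularGL 2 F)
  unfold psG
  simp_rw [classInner_indFun_right _ _ _ hχ]
  unfold classInner
  simp_rw [sum_BG, muG_bB]
  have h1 : ∀ α β : MulChar F ℂ, α s₀ * β t₀ * ((Nat.card (upperTriangularGL 2 F) : ℂ)⁻¹ *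
      ∑ s : Fˣ, ∑ t : Fˣ, ∑ x : F, χ (bB (s, t, x) : GL (Fin 2) F) * conj (α s * β t))
      = (Nat.card (upperTriangularGL 2 F) : ℂ)⁻¹ * ∑ s : Fˣ, ∑ t : Fˣ,
        (α s₀ * conj (α s)) * ((β t₀ * conj (β t)) * ∑ x : F, χ (bG s t x)) := by
    intro α β
    rw [mul_left_comm, Finset.mul_sum]
    congr 1
    apply Finset.sum_congr rfl
    intro s _
    rw [Finset.mul_sum]
    apply Finset.sum_congr rfl
    intro t _
    rw [Finset.mul_sum, Finset.mul_sum, Finset.mul_sum]
    apply Finset.sum_congr rfl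
    intro x _
    rw [map_mul]
    change _ * (χ (bG s t x) * _) = _
    ring
  simp_rw [h1]
  have h2 : ∀ (s₁ s : Fˣ), ∑ α : MulChar F ℂ, α s₁ * conj (α s)
      = if s = s₁ then (Fintype.card F : ℂ) - 1 else 0 := by
    intro s₁ s
    have : ∀ α : MulChar F ℂ, α s₁ * conj (α s) = α ((s₁ * s⁻¹ : Fˣ) : F) := by
      intro α
      rw [mc_conj, MulChar.inv_apply', Units.val_mul, map_mul, Units.val_inv_eq_inv_val]
    simp_rw [this]
    rw [mc_sum_chars]
    congr 1
    rw [Units.val_eq_one, mul_inv_eq_one]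
    exact propext eq_comm
  have h3 := sum4_comm (fun (α : MulChar F ℂ) (s : Fˣ) => α s₀ * conj (α s))
    (fun (β : MulChar F ℂ) (t : Fˣ) => β t₀ * conj (β t)) (fun s t => ∑ x : F, χ (bG s t x))
  have h4 : ∑ α : MulChar F ℂ, ∑ β : MulChar F ℂ, (Nat.card (upperTriangularGL 2 F) : ℂ)⁻¹ *
      ∑ s : Fˣ, ∑ t : Fˣ, (α s₀ * conj (α s)) * ((β t₀ * conj (β t)) * ∑ x : F, χ (bG s t x))
      = (Nat.card (upperTriangularGL 2 F) : ℂ)⁻¹ * ∑ α : MulChar F ℂ, ∑ β : MulChar F ℂ,
      ∑ s : Fˣ, ∑ t : Fˣ, (α s₀ * conj (α s)) * ((β t₀ * conj (β t)) * ∑ x : F, χ (bG s t x)) := by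
    rw [Finset.mul_sum]
    apply Finset.sum_congr rfl
    intro α _
    rw [Finset.mul_sum]
  rw [h4, h3]
  simp_rw [h2]
  rw [Finset.sum_eq_single s₀, Finset.sum_eq_single t₀]
  · rw [if_pos rfl, if_pos rfl, card_BG]
    have hq := card_F_ne_zero (F := F)
    have hq1 := card_sub_one_ne_zero (F := F)
    field_simp
  · intro t _ ht
    rw [if_neg ht]; simp
  · intro h
    exact absurd (Finset.mem_univ _) h
  · intro s _ hs
    rw [if_neg hs]; simp
  · intro h
    exact absurd (Finset.mem_univ _) h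

end Cfsg.Agent.Lib.Helper39
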